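import Mathlib
import Groth.Prelude.Def_PCoh

/-!
# n-quasi-isomorphisms and finite type cohomology
-/

set_option autoImplicit false
set_option linter.style.haveILetI false

universe w v u

open CategoryTheory CategoryTheory.Limits CategoryTheory.Pretriangulated HomologicalComplex

namespace PQLib

variable {C : Type u} [Category.{v} C] [Abelian C]

/-- Isomorphism on `H^i` for `i > n` and epimorphism on `H^n`. -/
def NQis {E F : CochainComplex C ℤ} (u : E ⟶ F) (n : ℤ) : Prop :=
  (∀ i : ℤ, n < i → IsIso (homologyMap u i)) ∧ Epi (homologyMap u n)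

section Derived

variable [HasDerivedCategory.{w} C]

/-- Isomorphism on `H^i` for `i > n` and epimorphism on `H^n`, in the derived category. -/
def NIso {X Y : DerivedCategory C} (α : X ⟶ Y) (n : ℤ) : Prop :=
  (∀ i : ℤ, n < i → IsIso ((DerivedCategory.homologyFunctor C i).map α)) ∧
    Epi ((DerivedCategory.homologyFunctor C n).map α)

theorem nIso_iff_cone (T : Triangle (DerivedCategory C)) (hT : T ∈ distinguishedTriangles) (n : ℤ) :
    NIso T.mor₁ n ↔
      ∀ j : ℤ, n ≤ j → IsZero ((DerivedCategory.homologyFunctor C j).obj T.obj₃) := by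
  constructor
  · rintro ⟨hiso, hepi⟩ j hj
    haveI : Epi ((DerivedCategory.homologyFunctor C j).map T.mor₁) := by
      rcases hj.lt_or_eq with h | rfl
      · haveI := hiso j h; infer_instance
      · exact hepi
    haveI : Mono ((DerivedCategory.homologyFunctor C (j + 1)).map T.mor₁) :=
      haveI := hiso (j + 1) (by omega); inferInstance
    exact (DerivedCategory.HomologySequence.exact₃ T hT j (j + 1) rfl).isZero_X₂
      ((DerivedCategory.HomologySequence.epi_homologyMap_mor₁_iff T hT j).1 inferInstance)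
      ((DerivedCategory.HomologySequence.mono_homologyMap_mor₁_iff T hT j (j + 1) rfl).1
        inferInstance)
  · intro h
    have hepi : ∀ j, n ≤ j → Epi ((DerivedCategory.homologyFunctor C j).map T.mor₁) := fun j hj =>
      (DerivedCategory.HomologySequence.epi_homologyMap_mor₁_iff T hT j).2
        ((h j hj).eq_of_tgt _ _)
    refine ⟨fun i hi => ?_, hepi n le_rfl⟩
    haveI := hepi i hi.le
    haveI : Mono ((DerivedCategory.homologyFunctor C i).map T.mor₁) :=
      (DerivedCategory.HomologySequence.mono_homologyMap_mor₁_iff T hT (i - 1) i (by omega)).2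
        ((h (i - 1) (by omega)).eq_of_src _ _)
    exact isIso_of_mono_of_epi _

theorem nqis_iff_nIso {E F : CochainComplex C ℤ} (u : E ⟶ F) (n : ℤ) :
    NQis u n ↔ NIso (DerivedCategory.Q.map u) n := by
  have e : ∀ i, Arrow.mk ((DerivedCategory.homologyFunctor C i).map (DerivedCategory.Q.map u)) ≅
      Arrow.mk (homologyMap u i) := fun i =>
    Arrow.isoMk ((DerivedCategory.homologyFunctorFactors C i).app E)
      ((DerivedCategory.homologyFunctorFactors C i).app F)
      ((DerivedCategory.homologyFunctorFactors C i).hom.naturality u).symm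
  exact and_congr
    (forall_congr' fun i => imp_congr_right fun _ =>
      ((MorphismProperty.isomorphisms C).arrow_mk_iso_iff (e i)).symm)
    ((MorphismProperty.epimorphisms C).arrow_mk_iso_iff (e n)).symm

theorem NIso.of_le {X Y : DerivedCategory C} {α : X ⟶ Y} {n m : ℤ} (h : NIso α n) (hm : n ≤ m) :
    NIso α m := by
  refine ⟨fun i hi => h.1 i (by omega), ?_⟩
  rcases hm.lt_or_eq with hm | rfl
  · haveI := h.1 m hm; infer_instance
  · exact h.2

end Derived

attribute [local instance] HasDerivedCategory.standard in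
theorem nqis_iff_cone {E F : CochainComplex C ℤ} (u : E ⟶ F) (n : ℤ) :
    NQis u n ↔ ∀ j : ℤ, n ≤ j → IsZero ((CochainComplex.mappingCone u).homology j) := by
  rw [nqis_iff_nIso]
  refine (nIso_iff_cone (DerivedCategory.Q.mapTriangle.obj (CochainComplex.mappingCone.triangle u))
    (DerivedCategory.mappingCone_triangle_distinguished u) n).trans ?_
  exact forall_congr' fun j => imp_congr_right fun _ =>
    ((DerivedCategory.homologyFunctorFactors C j).app (CochainComplex.mappingCone u)).isZero_iff

theorem NQis.of_le {E F : CochainComplex C ℤ} {u : E ⟶ F} {n m : ℤ} (h : NQis u n) (hm : n ≤ m) :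
    NQis u m :=
  (nqis_iff_cone u m).2 fun j hj => (nqis_iff_cone u n).1 h j (hm.trans hj)

variable {P : ObjectProperty C}

theorem finiteType_of_epi {X Y : C} (p : X ⟶ Y) [Epi p] (h : PCoh.IsOfFiniteType P X) :
    PCoh.IsOfFiniteType P Y := by
  obtain ⟨E, π, hE, _⟩ := h
  exact ⟨E, π ≫ p, hE, inferInstance⟩

theorem finiteType_of_iso {X Y : C} (e : X ≅ Y) (h : PCoh.IsOfFiniteType P X) :
    PCoh.IsOfFiniteType P Y :=
  finiteType_of_epi e.hom h

/-- The augmented tail of a complex. -/
noncomputable def tail (K : CochainComplex C ℤ) (m : ℤ) : CochainComplex C ℕ :=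
  CochainComplex.augment
    (CochainComplex.of (fun i : ℕ => K.X (m + i)) (fun i => K.d (m + i) (m + (i + 1 : ℕ)))
      (fun i => K.d_comp_d _ _ _))
    (K.iCycles m ≫ (K.XIsoOfEq (show m = m + ((0 : ℕ) : ℤ) by simp)).hom)
    (by
      have h : (CochainComplex.of (fun i : ℕ => K.X (m + i))
        (fun i => K.d (m + i) (m + (i + 1 : ℕ))) (fun i => K.d_comp_d _ _ _)).d 0 1 =
          K.d (m + ((0 : ℕ) : ℤ)) (m + ((0 + 1 : ℕ) : ℤ)) :=
        CochainComplex.of_d (fun i : ℕ => K.X (m + i)) (fun i => K.d (m + i) (m + (i + 1 : ℕ))) 0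
      rw [h]
      simp)

theorem tail_d_succ (K : CochainComplex C ℤ) (m : ℤ) (i : ℕ) :
    (tail K m).d (i + 1) (i + 1 + 1) = K.d (m + i) (m + (i + 1 : ℕ)) :=
  CochainComplex.of_d (fun i : ℕ => K.X (m + i)) (fun i => K.d (m + i) (m + (i + 1 : ℕ))) i

theorem tail_d_zero (K : CochainComplex C ℤ) (m : ℤ) :
    (tail K m).d 0 1 = K.iCycles m ≫ (K.XIsoOfEq (show m = m + ((0 : ℕ) : ℤ) by simp)).hom :=
  rfl

/-- Quasi-stability makes top cohomology finitely generated. -/
theorem finiteType_homology (hqs : PCoh.IsQuasiStableUnderKernels P) [P.ContainsZero]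
    [P.IsClosedUnderIsomorphisms] (K : CochainComplex C ℤ) (m b : ℤ)
    (hz : ∀ i : ℤ, b < i → IsZero (K.X i)) (hP : ∀ i : ℤ, m ≤ i → P (K.X i))
    (hcoh : ∀ i : ℤ, m < i → IsZero (K.homology i)) :
    PCoh.IsOfFiniteType P (K.homology m) := by
  refine finiteType_of_epi (K.homologyπ m) (hqs (tail K m) (fun i => ?_)
    ⟨(b + 2 - m).toNat, fun i hi => ?_⟩ fun i hi => ?_)
  · match i with
    | 0 =>
      rw [HomologicalComplex.exactAt_iff' _ 0 0 1 (by simp) (by simp)]
      exact (ShortComplex.exact_iff_mono _ ((tail K m).shape 0 0 (by simp))).2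
        (inferInstanceAs (Mono (K.iCycles m ≫ (K.XIsoOfEq _).hom)))
    | 1 =>
      rw [HomologicalComplex.exactAt_iff' _ 0 1 2 (by simp) (by simp)]
      refine ShortComplex.exact_of_iso ?_ (ShortComplex.exact_of_f_is_kernel
        (ShortComplex.mk (K.iCycles m) (K.d m (m + 1)) (K.iCycles_d _ _))
        (K.cyclesIsKernel m (m + 1) (by simp)))
      refine ShortComplex.isoMk (Iso.refl _)
        (K.XIsoOfEq (show m = m + ((0 : ℕ) : ℤ) by simp))
        (K.XIsoOfEq (show m + 1 = m + ((0 + 1 : ℕ) : ℤ) by simp)) ?_ ?_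
      · exact (Category.id_comp _).trans (tail_d_zero K m)
      · refine (congrArg (_ ≫ ·) (tail_d_succ K m 0)).trans ?_
        change (K.XIsoOfEq _).hom ≫ K.d _ _ = K.d m (m + 1) ≫ (K.XIsoOfEq _).hom
        rw [XIsoOfEq_hom_comp_d, d_comp_XIsoOfEq_hom]
    | j + 2 =>
      rw [HomologicalComplex.exactAt_iff' _ (j + 1) (j + 2) (j + 3) (by simp) (by simp)]
      have h := hcoh (m + (j + 1 : ℕ)) (by omega)
      rw [← HomologicalComplex.exactAt_iff_isZero_homology,
        HomologicalComplex.exactAt_iff' _ (m + j) (m + (j + 1 : ℕ)) (m + (j + 2 : ℕ))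
          (by simp; omega) (by simp; omega)] at h
      refine ShortComplex.exact_of_iso ?_ h
      exact ShortComplex.isoMk (Iso.refl _) (Iso.refl _) (Iso.refl _)
          ((Category.id_comp _).trans ((tail_d_succ K m j).trans (Category.comp_id _).symm))
          ((Category.id_comp _).trans ((tail_d_succ K m (j + 1)).trans (Category.comp_id _).symm))
  · match i, hi with
    | j + 1, hj => exact hz (m + j) (by omega)
  · match i, hi with
    | j + 1, _ => exact hP (m + j) (by omega)

end PQLib
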