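import Mathlib
import Groth.Agent.PQLib.Cone

/-!
# Modification of a complex in one degree
-/

set_option autoImplicit false
set_option linter.style.haveILetI false

universe v u

open CategoryTheory CategoryTheory.Limits HomologicalComplex CochainComplex.HomComplex

namespace PQLib

open CochainComplex

variable {C : Type u} [Category.{v} C] [Abelian C] {P : ObjectProperty C}

theorem cyclesMap_epi_of_isIso {K L : CochainComplex C ℤ} (f : K ⟶ L) (n : ℤ) [IsIso (f.f n)]
    [IsIso (f.f (n + 1))] : Epi (cyclesMap f n) := by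
  have hsec : (K.liftCycles (L.iCycles n ≫ inv (f.f n)) (n + 1) (by simp) (by
      rw [← cancel_mono (f.f (n + 1)), zero_comp, Category.assoc, Category.assoc, ← f.comm,
        IsIso.inv_hom_id_assoc, L.iCycles_d])) ≫ cyclesMap f n = 𝟙 _ := by
    rw [← cancel_mono (L.iCycles n), Category.assoc, cyclesMap_i, liftCycles_i_assoc,
      Category.assoc, IsIso.inv_hom_id, Category.comp_id, Category.id_comp]
  exact epi_of_epi_fac hsec

theorem homologyMap_epi_of_isIso {K L : CochainComplex C ℤ} (f : K ⟶ L) (n : ℤ) [IsIso (f.f n)]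
    [IsIso (f.f (n + 1))] : Epi (homologyMap f n) := by
  haveI := cyclesMap_epi_of_isIso f n
  exact epi_of_epi_fac (homologyπ_naturality f n)

theorem homologyMap_isIso_of_isIso {K L : CochainComplex C ℤ} (f : K ⟶ L) (n : ℤ)
    (h₀ : IsIso (f.f (n - 1))) (h₁ : IsIso (f.f n)) (h₂ : IsIso (f.f (n + 1))) :
    IsIso (homologyMap f n) := by
  rw [← quasiIsoAt_iff_isIso_homologyMap, quasiIsoAt_iff' f (n - 1) n (n + 1) (by simp) (by simp)]
  haveI : IsIso ((shortComplexFunctor' C (ComplexShape.up ℤ) (n - 1) n (n + 1)).map f) :=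
    @ShortComplex.isIso_of_isIso _ _ _ _ _ _ h₀ h₁ h₂
  infer_instance

theorem exists_modify [P.IsClosedUnderIsomorphisms] (hsum : ∀ X Y : C, P X → P Y → P (X ⨯ Y))
    (hql : PCoh.IsQuasiLiftable P) (n : ℤ) {E F : CochainComplex C ℤ} (u : E ⟶ F)
    (hu : NQis u (n + 1)) (hft : PCoh.IsOfFiniteType P ((mappingCone u).homology n)) :
    ∃ (E' : CochainComplex C ℤ) (v : E ⟶ E') (u' : E' ⟶ F), v ≫ u' = u ∧
      (∀ i : ℤ, Mono (v.f i)) ∧ (∀ i : ℤ, i ≠ n → IsIso (v.f i)) ∧ P (cokernel (v.f n)) ∧
      (P (E.X n) → P (E'.X n)) ∧ NQis u' n := by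
  obtain ⟨E₀, π, hE₀, _⟩ := hft
  obtain ⟨P₀, l, hP₀, hl⟩ := hql _ _ (pullback.snd ((mappingCone u).homologyπ n) π) inferInstance hE₀
  let zc : P₀ ⟶ (mappingCone u).cycles n := l ≫ pullback.fst _ _
  have hzc : Epi (zc ≫ (mappingCone u).homologyπ n) := by
    have : zc ≫ (mappingCone u).homologyπ n =
        (l ≫ pullback.snd ((mappingCone u).homologyπ n) π) ≫ π := by
      simp [zc, pullback.condition]
    rw [this]
    exact epi_comp _ _
  let z := zc ≫ (mappingCone u).iCycles n
  have hz : z ≫ (mappingCone u).d n (n + 1) = 0 := by simp [z]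
  let x : P₀ ⟶ E.X (n + 1) := z ≫ (mappingCone.fst u).1.v n (n + 1) rfl
  let y : P₀ ⟶ F.X n := z ≫ (mappingCone.snd u).v n n (add_zero n)
  have hx : x ≫ E.d (n + 1) (n + 1 + 1) = 0 := by
    have h := congrArg (· ≫ (mappingCone.fst u).1.v (n + 1) (n + 1 + 1) rfl) hz
    simp only [Category.assoc, zero_comp, mappingCone.d_fst_v u n (n + 1) (n + 1 + 1) rfl rfl,
      Preadditive.neg_comp, Preadditive.comp_neg, neg_eq_zero] at h
    simpa [x] using h
  have hy : x ≫ u.f (n + 1) + y ≫ F.d n (n + 1) = 0 := by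
    have h := congrArg (· ≫ (mappingCone.snd u).v (n + 1) (n + 1) (add_zero _)) hz
    simp only [Category.assoc, zero_comp, mappingCone.d_snd_v u n (n + 1) rfl,
      Preadditive.comp_add] at h
    simpa [x, y] using h
  let w : (CochainComplex.singleFunctor C (n + 1)).obj P₀ ⟶ E :=
    mkHomFromSingle x (fun k hk => by
      obtain rfl : n + 1 + 1 = k := hk
      exact hx)
  let α : Cochain ((CochainComplex.singleFunctor C (n + 1)).obj P₀) F (-1) :=
    Cochain.fromSingleMk (-y) (show n + 1 + -1 = n by omega)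
  have hα : δ (-1) 0 α = Cochain.ofHom (w ≫ u) := by
    rw [Cochain.δ_fromSingleMk (-y) (show n + 1 + -1 = n by omega) 0 (n + 1) (add_zero _)]
    ext p
    by_cases hp : p = n + 1
    · subst hp
      rw [Cochain.fromSingleMk_v, Cochain.ofHom_v, HomologicalComplex.comp_f, mkHomFromSingle_f]
      refine Eq.trans ?_ (Category.assoc _ _ _).symm
      rw [Preadditive.neg_comp, ← eq_neg_iff_add_eq_zero.2 hy]
      rfl
    · exact (isZero_single_obj_X _ _ _ _ hp).eq_of_src _ _
  let u' : mappingCone w ⟶ F := mappingCone.desc w α u hα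
  let v : E ⟶ mappingCone w := mappingCone.inr w
  have hvu : v ≫ u' = u := mappingCone.inr_desc w α u hα
  have hv : ∀ i : ℤ, i ≠ n → IsIso (v.f i) := fun i hi => by
    refine ⟨(mappingCone.snd w).v i i (add_zero i), mappingCone.inr_f_snd_v w i, ?_⟩
    rw [← mappingCone.id_X w i (i + 1) rfl]
    have h0 : IsZero (((CochainComplex.singleFunctor C (n + 1)).obj P₀).X (i + 1)) :=
      isZero_single_obj_X _ _ _ _ (by omega)
    rw [h0.eq_of_tgt ((mappingCone.fst w).1.v i (i + 1) rfl) 0, zero_comp, zero_add]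
  let ι : mappingCone u ⟶ mappingCone u' :=
    mappingCone.map u u' v (𝟙 F) (by rw [Category.comp_id, hvu])
  have hι : ∀ i : ℤ, n ≤ i → IsIso (ι.f i) := fun i hi => by
    haveI := hv (i + 1) (by omega)
    refine ⟨(mappingCone.fst u').1.v i (i + 1) rfl ≫ inv (v.f (i + 1)) ≫
      (mappingCone.inl u).v (i + 1) i (by omega) +
      (mappingCone.snd u').v i i (add_zero i) ≫ (mappingCone.inr u).f i, ?_, ?_⟩
    · simp [ι, mappingCone.map, mappingCone.ext_from_iff _ (i + 1) i rfl]
    · simp [ι, mappingCone.map, mappingCone.ext_from_iff _ (i + 1) i rfl]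
  refine ⟨mappingCone w, v, u', hvu,
    fun i => mono_of_mono_fac (h := 𝟙 _) (mappingCone.inr_f_snd_v w i), hv, ?_, ?_, ?_⟩
  · let e₀ := HomologicalComplex.singleObjXSelf (ComplexShape.up ℤ) (n + 1) P₀
    have hc : IsColimit (CokernelCofork.ofπ ((mappingCone.fst w).1.v n (n + 1) rfl)
        (mappingCone.inr_f_fst_v w n (n + 1) rfl) : CokernelCofork (v.f n)) :=
      CokernelCofork.IsColimit.ofπ _ _
        (fun g _ => (mappingCone.inl w).v (n + 1) n (by omega) ≫ g)
        (fun g hg => by
          change v.f n ≫ g = 0 at hg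
          conv_rhs => rw [← Category.id_comp g, ← mappingCone.id_X w n (n + 1) rfl,
            Preadditive.add_comp, Category.assoc, Category.assoc, hg, comp_zero, add_zero]
        )
        (fun g _ m hm => by rw [← hm, mappingCone.inl_v_fst_v_assoc])
    exact P.prop_of_iso (e₀.symm ≪≫
      hc.coconePointUniqueUpToIso (colimit.isColimit _)) hP₀
  · intro hEn
    exact P.prop_of_iso (homotopyCofiber.XIsoBiprod w n (n + 1) rfl).symm
      (P.prop_of_iso (biprod.isoProd _ _).symm (hsum _ _
        (P.prop_of_iso (HomologicalComplex.singleObjXSelf (ComplexShape.up ℤ) (n + 1) P₀).symm hP₀)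
        hEn))
  · rw [nqis_iff_cone]
    intro j hj
    rcases hj.lt_or_eq with hj' | rfl
    · haveI := homologyMap_isIso_of_isIso ι j (hι _ (by omega)) (hι _ (by omega)) (hι _ (by omega))
      exact IsZero.of_iso ((nqis_iff_cone u (n + 1)).1 hu j (by omega))
        (asIso (homologyMap ι j)).symm
    · haveI := hι n le_rfl
      haveI := hι (n + 1) (by omega)
      haveI := homologyMap_epi_of_isIso ι n
      let p : P₀ ⟶ (mappingCone u').X (n - 1) :=
        (HomologicalComplex.singleObjXSelf (ComplexShape.up ℤ) (n + 1) P₀).inv ≫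
          (mappingCone.inl w).v (n + 1) n (by omega) ≫ (mappingCone.inl u').v n (n - 1) (by omega)
      have hp : zc ≫ cyclesMap ι n = (-p) ≫ (mappingCone u').toCycles (n - 1) n := by
        rw [← cancel_mono ((mappingCone u').iCycles n), Category.assoc zc, Category.assoc (-p),
          cyclesMap_i, toCycles_i, ← Category.assoc]
        change z ≫ ι.f n = _
        have hιfst : ι.f n ≫ (mappingCone.fst u').1.v n (n + 1) rfl =
            (mappingCone.fst u).1.v n (n + 1) rfl ≫ v.f (n + 1) := by
          simp [ι, mappingCone.map, mappingCone.ext_from_iff _ (n + 1) n rfl]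
        have hιsnd : ι.f n ≫ (mappingCone.snd u').v n n (add_zero n) =
            (mappingCone.snd u).v n n (add_zero n) := by
          simp [ι, mappingCone.map, mappingCone.ext_from_iff _ (n + 1) n rfl]
        have hinl : (mappingCone.inl w).v (n + 1) n (by omega) ≫ (mappingCone w).d n (n + 1) =
            w.f (n + 1) ≫ v.f (n + 1) := by
          rw [mappingCone.inl_v_d w (n + 1) n (n + 1 + 1) (by omega) (by omega)]
          rw [show ((CochainComplex.singleFunctor C (n + 1)).obj P₀).d (n + 1) (n + 1 + 1) = 0 from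
            (isZero_single_obj_X (ComplexShape.up ℤ) (n + 1) P₀ (n + 1 + 1) (by simp)).eq_of_tgt _ _,
            zero_comp, sub_zero]
        have hw : (HomologicalComplex.singleObjXSelf (ComplexShape.up ℤ) (n + 1) P₀).inv ≫
            w.f (n + 1) = x := by
          rw [mkHomFromSingle_f, Iso.inv_hom_id_assoc]
        have hu' : (mappingCone.inl w).v (n + 1) n (by omega) ≫ u'.f n =
            (HomologicalComplex.singleObjXSelf (ComplexShape.up ℤ) (n + 1) P₀).hom ≫ (-y) := by
          rw [mappingCone.inl_v_desc_f, Cochain.fromSingleMk_v]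
        rw [mappingCone.ext_to_iff _ n (n + 1) rfl]
        simp only [p, Preadditive.neg_comp, Category.assoc, hιfst, hιsnd,
          mappingCone.inl_v_d u' n (n - 1) (n + 1) (by omega) (by omega), Preadditive.sub_comp,
          mappingCone.inr_f_fst_v, mappingCone.inr_f_snd_v, mappingCone.inl_v_fst_v,
          mappingCone.inl_v_snd_v, comp_zero, Category.comp_id, zero_sub, sub_zero,
          Preadditive.comp_neg, neg_neg]
        constructor
        · exact (Category.assoc _ _ _).symm.trans ((congrArg (· ≫ v.f (n + 1)) hw.symm).trans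
            ((Category.assoc _ _ _).trans (congrArg (_ ≫ ·) hinl.symm)))
        · exact (neg_neg y).symm.trans (congrArg Neg.neg
            ((Iso.inv_hom_id_assoc (HomologicalComplex.singleObjXSelf (ComplexShape.up ℤ) (n + 1) P₀)
              (-y)).symm.trans (congrArg (_ ≫ ·) hu'.symm)))
      have h0 : homologyMap ι n = 0 := by
        rw [← cancel_epi (zc ≫ (mappingCone u).homologyπ n), Category.assoc, homologyπ_naturality,
          comp_zero, ← Category.assoc, hp, Category.assoc, toCycles_comp_homologyπ, comp_zero]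
      exact IsZero.of_epi_eq_zero _ h0

end PQLib
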