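import Mathlib
import Groth.Agent.PQLib.Modify
import Groth.Agent.NQisLib.Factor

/-!
# Replacing a complex by one with good terms
-/

set_option autoImplicit false
set_option linter.style.haveILetI false

universe v u

open CategoryTheory CategoryTheory.Limits HomologicalComplex

namespace PQLib

variable {C : Type u} [Category.{v} C] [Abelian C]

/-- The hypotheses on the subcategory. -/
structure Hyp (P : ObjectProperty C) : Prop where
  sum : ∀ X Y : C, P X → P Y → P (X ⨯ Y)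
  qs : PCoh.IsQuasiStableUnderKernels P
  ql : PCoh.IsQuasiLiftable P

variable {P : ObjectProperty C} [P.IsClosedUnderIsomorphisms]

theorem Hyp.biprod (h : Hyp P) {X Y : C} (hX : P X) (hY : P Y) : P (X ⊞ Y) :=
  P.prop_of_iso (biprod.isoProd X Y).symm (h.sum X Y hX hY)

theorem IsStrictPC.mono_deg {n m : ℤ} {E : CochainComplex C ℤ} (hE : PCoh.IsStrictPC P n E)
    (hnm : n ≤ m) : PCoh.IsStrictPC P m E :=
  ⟨hE.1, fun i hi => hE.2 i (hnm.trans hi)⟩

theorem IsStrictPC.cone (h : Hyp P) {n : ℤ} {E F : CochainComplex C ℤ}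
    (hE : PCoh.IsStrictPC P (n + 1) E) (hF : PCoh.IsStrictPC P n F) (φ : E ⟶ F) :
    PCoh.IsStrictPC P n (CochainComplex.mappingCone φ) := by
  obtain ⟨⟨b, hb⟩, hE⟩ := hE
  obtain ⟨⟨b', hb'⟩, hF⟩ := hF
  refine ⟨⟨max (b - 1) b', fun i hi => ?_⟩, fun i hi => P.prop_of_iso
    (homotopyCofiber.XIsoBiprod φ i (i + 1) rfl).symm
    (h.biprod (hE _ (by omega)) (hF _ hi))⟩
  exact IsZero.of_iso ((biprod_isZero_iff _ _).2 ⟨hb _ (by omega), hb' _ (by omega)⟩)
    (homotopyCofiber.XIsoBiprod φ i (i + 1) rfl)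

variable [P.ContainsZero]

theorem isStrictPC_of_isZero {n : ℤ} {E : CochainComplex C ℤ} (hE : IsZero E) :
    PCoh.IsStrictPC P n E :=
  ⟨⟨0, fun i _ => (HomologicalComplex.eval C _ i).map_isZero hE⟩,
    fun i _ => P.prop_of_isZero ((HomologicalComplex.eval C _ i).map_isZero hE)⟩

omit [P.IsClosedUnderIsomorphisms] [P.ContainsZero] in
theorem isZero_homology_of_isZero {E : CochainComplex C ℤ} (hE : IsZero E) (i : ℤ) :
    IsZero (E.homology i) :=
  (HomologicalComplex.exactAt_iff_isZero_homology _ _).1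
    ((E.sc i).exact_of_isZero_X₂ ((HomologicalComplex.eval C _ i).map_isZero hE))

omit [P.IsClosedUnderIsomorphisms] [P.ContainsZero] in
theorem nqis_of_isZero {E F : CochainComplex C ℤ} (hE : IsZero E) (u : E ⟶ F) (i : ℤ)
    (hF : ∀ j : ℤ, i ≤ j → IsZero (F.homology j)) : NQis u i := by
  refine ⟨fun j hj => ⟨⟨0, ?_, ?_⟩⟩, ⟨fun g g' _ => (hF i le_rfl).eq_of_src _ _⟩⟩
  · exact (isZero_homology_of_isZero hE j).eq_of_src _ _
  · exact (hF j hj.le).eq_of_src _ _

omit [P.IsClosedUnderIsomorphisms] [P.ContainsZero] in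
theorem nqis_of_quasiIso {E F : CochainComplex C ℤ} (u : E ⟶ F) [QuasiIso u] (n : ℤ) :
    NQis u n :=
  ⟨fun _ _ => inferInstance, inferInstance⟩

omit [P.IsClosedUnderIsomorphisms] [P.ContainsZero] in
theorem nqis_comp_iff {E E' F : CochainComplex C ℤ} (v : E ⟶ E') (u : E' ⟶ F) [QuasiIso u]
    (n : ℤ) : NQis (v ≫ u) n ↔ NQis v n := by
  simp only [NQis, homologyMap_comp, isIso_comp_right_iff]
  refine and_congr Iff.rfl ⟨fun h => ?_, fun h => epi_comp _ _⟩
  have : homologyMap v n = (homologyMap v n ≫ homologyMap u n) ≫ inv (homologyMap u n) := by simp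
  rw [this]; exact epi_comp _ _

omit [P.IsClosedUnderIsomorphisms] [P.ContainsZero] in
theorem nqis_comp_left_iff {E E' F : CochainComplex C ℤ} (v : E ⟶ E') (u : E' ⟶ F) [QuasiIso v]
    (n : ℤ) : NQis (v ≫ u) n ↔ NQis u n := by
  simp only [NQis, homologyMap_comp, isIso_comp_left_iff]
  exact and_congr Iff.rfl ⟨fun h => epi_of_epi (homologyMap v n) _, fun h => epi_comp _ _⟩

attribute [local instance] HasDerivedCategory.standard in
omit [P.IsClosedUnderIsomorphisms] [P.ContainsZero] in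
theorem coneHomologyIso_comp {E E' F : CochainComplex C ℤ} (v : E ⟶ E') (u : E' ⟶ F) [QuasiIso u]
    (m : ℤ) : Nonempty ((CochainComplex.mappingCone v).homology m ≅
      (CochainComplex.mappingCone (v ≫ u)).homology m) := by
  let c := CochainComplex.mappingCone.map v (v ≫ u) (𝟙 E) u (Category.id_comp _).symm
  haveI : QuasiIso c := by
    rw [← DerivedCategory.isIso_Q_map_iff_quasiIso]
    let ψ := DerivedCategory.Q.mapTriangle.map
      (CochainComplex.mappingCone.triangleMap v (v ≫ u) (𝟙 E) u (Category.id_comp _).symm)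
    have h₁ : IsIso ψ.hom₁ := inferInstanceAs (IsIso (DerivedCategory.Q.map (𝟙 E)))
    have h₂ : IsIso ψ.hom₂ := (DerivedCategory.isIso_Q_map_iff_quasiIso C u).2 inferInstance
    exact Pretriangulated.isIso₃_of_isIso₁₂ ψ
      (DerivedCategory.mappingCone_triangle_distinguished _)
      (DerivedCategory.mappingCone_triangle_distinguished _) h₁ h₂
  exact ⟨asIso (homologyMap c m)⟩

variable (P) in
/-- `F` supplies finite type cones for maps from strictly `n`-pseudo-coherent complexes. -/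
def Good (n : ℤ) (F : CochainComplex C ℤ) : Prop :=
  ∀ (E : CochainComplex C ℤ) (u : E ⟶ F), PCoh.IsStrictPC P n E → ∀ m : ℤ, n ≤ m →
    NQis u (m + 1) → PCoh.IsOfFiniteType P ((CochainComplex.mappingCone u).homology m)

theorem good_of_strict (h : Hyp P) {n : ℤ} {F : CochainComplex C ℤ}
    (hF : PCoh.IsStrictPC P n F) : Good P n F := by
  intro E u hE m hm hu
  obtain ⟨⟨b, hb⟩, hP⟩ := IsStrictPC.cone h (IsStrictPC.mono_deg hE (show n ≤ n + 1 by omega)) hF u
  exact finiteType_homology h.qs _ m b hb (fun i hi => hP i (hm.trans hi))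
    fun i hi => (nqis_iff_cone u (m + 1)).1 hu i (by omega)

theorem good_of_qis (h : Hyp P) {n : ℤ} {F G : CochainComplex C ℤ} (w : F ⟶ G) [QuasiIso w]
    (hG : Good P n G) : Good P n F := by
  intro E u hE m hm hu
  obtain ⟨e⟩ := coneHomologyIso_comp u w m
  exact finiteType_of_iso e.symm (hG E (u ≫ w) hE m hm ((nqis_comp_iff u w _).2 hu))

/-- Iterated modification. -/
theorem exists_iterate (h : Hyp P) {n : ℤ} {F : CochainComplex C ℤ} (hF : Good P n F) (k : ℕ)
    {E : CochainComplex C ℤ} (u : E ⟶ F) (hE : PCoh.IsStrictPC P n E) (hu : NQis u (n + k)) :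
    ∃ (E' : CochainComplex C ℤ) (v : E ⟶ E') (u' : E' ⟶ F), v ≫ u' = u ∧
      (∀ i : ℤ, Mono (v.f i)) ∧ (∀ i : ℤ, i < n ∨ n + k ≤ i → IsIso (v.f i)) ∧
      PCoh.IsStrictPC P n E' ∧ NQis u' n := by
  induction k generalizing E with
  | zero =>
    exact ⟨E, 𝟙 E, u, Category.id_comp u, fun i => inferInstanceAs (Mono (𝟙 (E.X i))),
      fun i _ => inferInstanceAs (IsIso (𝟙 (E.X i))), hE, by simpa using hu⟩
  | succ k ih =>
    have hu' : NQis u (n + k + 1) := by
      rwa [show n + k + 1 = n + ((k + 1 : ℕ) : ℤ) by push_cast; ring]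
    obtain ⟨E₁, v₁, u₁, h₁, hm₁, hi₁, -, hP₁, hu₁⟩ :=
      exists_modify h.sum h.ql (n + k) u hu' (hF E u hE _ (by omega) hu')
    have hE₁ : PCoh.IsStrictPC P n E₁ := by
      obtain ⟨b, hb⟩ := hE.1
      refine ⟨⟨max b (n + k), fun i hi => ?_⟩, fun i hi => ?_⟩
      · haveI := hi₁ i (by omega)
        exact IsZero.of_iso (hb i (by omega)) (asIso (v₁.f i)).symm
      · rcases eq_or_ne i (n + k) with rfl | hne
        · exact hP₁ (hE.2 _ hi)
        · haveI := hi₁ i hne
          exact P.prop_of_iso (asIso (v₁.f i)) (hE.2 i hi)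
    obtain ⟨E', v, u', h₂, hm, hiso, hE', hu₂⟩ := ih u₁ hE₁ hu₁
    refine ⟨E', v₁ ≫ v, u', by rw [Category.assoc, h₂, h₁], fun i => ?_, fun i hi => ?_, hE', hu₂⟩
    · haveI := hm₁ i
      haveI := hm i
      exact mono_comp _ _
    · haveI := hi₁ i (by omega)
      haveI := hiso i (by omega)
      rw [HomologicalComplex.comp_f]
      infer_instance

/-- Factorisation through a quasi-isomorphism. -/
theorem exists_factor (h : Hyp P) {n : ℤ} (i : ℤ) {E F : CochainComplex C ℤ} (hF : Good P n F)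
    (u : E ⟶ F) (hE : PCoh.IsStrictPC P n E) (hu : NQis u i) :
    ∃ (E' : CochainComplex C ℤ) (v : E ⟶ E') (u' : E' ⟶ F), v ≫ u' = u ∧
      PCoh.IsStrictPC P n E' ∧ QuasiIso u' ∧
      (∀ j : ℤ, Mono (v.f j)) ∧ (∀ j : ℤ, i ≤ j → IsIso (v.f j)) := by
  have strict : ∀ {G G' : CochainComplex C ℤ} (v : G ⟶ G') (l : ℤ), l ≤ n →
      (∀ j : ℤ, l ≤ j → IsIso (v.f j)) → PCoh.IsStrictPC P n G → PCoh.IsStrictPC P n G' := by
    intro G G' v l hl hv hG
    obtain ⟨b, hb⟩ := hG.1
    refine ⟨⟨max b n, fun j hj => ?_⟩, fun j hj => ?_⟩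
    · haveI := hv j (by omega)
      exact IsZero.of_iso (hb j (by omega)) (asIso (v.f j)).symm
    · haveI := hv j (by omega)
      exact P.prop_of_iso (asIso (v.f j)) (hG.2 j hj)
  rcases le_total i n with hin | hin
  · obtain ⟨E', v, u', hfac, hq, hm, hiso⟩ := NQisLib.exists_factorisation u i hu.1 hu.2
    exact ⟨E', v, u', hfac, strict v i hin hiso hE, hq, hm, hiso⟩
  · obtain ⟨E₁, v₁, u₁, h₁, hm₁, hi₁, hE₁, hu₁⟩ :=
      exists_iterate h hF (i - n).toNat u hE (hu.of_le (by omega))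
    obtain ⟨E', v, u', hfac, hq, hm, hiso⟩ := NQisLib.exists_factorisation u₁ n hu₁.1 hu₁.2
    refine ⟨E', v₁ ≫ v, u', by rw [Category.assoc, hfac, h₁], strict v n le_rfl hiso hE₁, hq,
      fun j => ?_, fun j hj => ?_⟩
    · haveI := hm₁ j
      haveI := hm j
      exact mono_comp _ _
    · haveI := hi₁ j (by omega)
      haveI := hiso j (by omega)
      rw [HomologicalComplex.comp_f]
      infer_instance

omit [P.IsClosedUnderIsomorphisms] [P.ContainsZero] in
theorem isZero_homology_of_strict {n : ℤ} {F : CochainComplex C ℤ} (hF : PCoh.IsStrictPC P n F) :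
    ∃ b : ℤ, ∀ j : ℤ, b ≤ j → IsZero (F.homology j) := by
  obtain ⟨b, hb⟩ := hF.1
  exact ⟨b + 1, fun j hj => (HomologicalComplex.exactAt_iff_isZero_homology _ _).1
    ((F.sc j).exact_of_isZero_X₂ (hb j (by omega)))⟩

open ZeroObject in
/-- A strict complex, zero from degree `i` on, quasi-isomorphic to `F`. -/
theorem exists_resolution (h : Hyp P) {n : ℤ} {F : CochainComplex C ℤ} (hF : Good P n F) (i : ℤ)
    (hi : ∀ j : ℤ, i ≤ j → IsZero (F.homology j)) :
    ∃ (E' : CochainComplex C ℤ) (u' : E' ⟶ F), PCoh.IsStrictPC P n E' ∧ QuasiIso u' ∧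
      ∀ j : ℤ, i ≤ j → IsZero (E'.X j) := by
  obtain ⟨E', v, u', -, hE', hq, -, hiso⟩ := exists_factor h i hF (0 : (0 : CochainComplex C ℤ) ⟶ F)
    (isStrictPC_of_isZero (isZero_zero _)) (nqis_of_isZero (isZero_zero _) _ i hi)
  refine ⟨E', u', hE', hq, fun j hj => ?_⟩
  haveI := hiso j hj
  exact IsZero.of_iso ((HomologicalComplex.eval C _ j).map_isZero (isZero_zero _))
    (asIso (v.f j)).symm

open ZeroObject in
/-- A strictly perfect complex mapping by an `n`-quasi-isomorphism. -/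
theorem exists_perfect (h : Hyp P) {n : ℤ} {F : CochainComplex C ℤ} (hF : Good P n F) (i : ℤ)
    (hni : n ≤ i) (hi : ∀ j : ℤ, i ≤ j → IsZero (F.homology j)) :
    ∃ (E' : CochainComplex C ℤ) (u' : E' ⟶ F), (∀ j : ℤ, j < n ∨ i ≤ j → IsZero (E'.X j)) ∧
      (∀ j : ℤ, P (E'.X j)) ∧ NQis u' n := by
  obtain ⟨E', v, u', -, -, hiso, hE', hu⟩ := exists_iterate h hF (i - n).toNat
    (0 : (0 : CochainComplex C ℤ) ⟶ F) (isStrictPC_of_isZero (isZero_zero _))
    ((nqis_of_isZero (isZero_zero _) _ i hi).of_le (by omega))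
  have hz : ∀ j : ℤ, j < n ∨ i ≤ j → IsZero (E'.X j) := fun j hj => by
    haveI := hiso j (by omega)
    exact IsZero.of_iso ((HomologicalComplex.eval C _ j).map_isZero (isZero_zero _))
      (asIso (v.f j)).symm
  refine ⟨E', u', hz, fun j => ?_, hu⟩
  rcases lt_or_ge j n with hj | hj
  · exact P.prop_of_isZero (hz j (Or.inl hj))
  · exact hE'.2 j hj

/-- A complex quasi-isomorphic to a strict one receives a quasi-isomorphism from a strict one. -/
theorem exists_strict_to (h : Hyp P) {n : ℤ} {E F : CochainComplex C ℤ}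
    (hF : PCoh.IsStrictPC P n F) (u : E ⟶ F) [QuasiIso u] :
    ∃ (F' : CochainComplex C ℤ) (v : F' ⟶ E), PCoh.IsStrictPC P n F' ∧ QuasiIso v := by
  obtain ⟨b, hb⟩ := isZero_homology_of_strict hF
  obtain ⟨F', v, hF', hv, -⟩ := exists_resolution h (good_of_qis h u (good_of_strict h hF)) b
    fun j hj => IsZero.of_iso (hb j hj) (asIso (homologyMap u j))
  exact ⟨F', v, hF', hv⟩

end PQLib
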