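import Mathlib
import Groth.Agent.PQLib.Iter

/-!
# Pseudo-coherence in the derived category
-/

set_option autoImplicit false
set_option linter.style.haveILetI false

universe w v u

open CategoryTheory CategoryTheory.Limits CategoryTheory.Pretriangulated HomologicalComplex

namespace PQLib

variable {C : Type u} [Category.{v} C] [Abelian C] [HasDerivedCategory.{w} C]

/-- Isomorphic in the derived category to a strictly `n`-pseudo-coherent complex. -/
def PC (P : ObjectProperty C) (n : ℤ) (X : DerivedCategory C) : Prop :=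
  ∃ E : CochainComplex C ℤ, PCoh.IsStrictPC P n E ∧ Nonempty (DerivedCategory.Q.obj E ≅ X)

/-- Homology of a model. -/
noncomputable def homologyIso {E : CochainComplex C ℤ} {X : DerivedCategory C}
    (e : DerivedCategory.Q.obj E ≅ X) (i : ℤ) :
    (DerivedCategory.homologyFunctor C i).obj X ≅ E.homology i :=
  (DerivedCategory.homologyFunctor C i).mapIso e.symm ≪≫
    (DerivedCategory.homologyFunctorFactors C i).app E

theorem exists_model (X : DerivedCategory C) :
    ∃ K : CochainComplex C ℤ, Nonempty (DerivedCategory.Q.obj K ≅ X) :=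
  ⟨(DerivedCategory.Q (C := C)).objPreimage X,
    ⟨(DerivedCategory.Q (C := C)).objObjPreimageIso X⟩⟩

theorem isZero_homology_single (A : C) (n i : ℤ) (h : i ≠ n) :
    IsZero ((DerivedCategory.homologyFunctor C i).obj ((DerivedCategory.singleFunctor C n).obj A)) :=
  IsZero.of_iso ((HomologicalComplex.exactAt_iff_isZero_homology _ _).1
      (HomologicalComplex.exactAt_single_obj _ _ _ _ h))
    (homologyIso (E := (HomologicalComplex.single C (ComplexShape.up ℤ) n).obj A) (Iso.refl _) i)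

/-- Homology of an object concentrated in one degree. -/
noncomputable def homologySingleIso (A : C) (n : ℤ) :
    (DerivedCategory.homologyFunctor C n).obj ((DerivedCategory.singleFunctor C n).obj A) ≅ A :=
  homologyIso (E := (HomologicalComplex.single C (ComplexShape.up ℤ) n).obj A) (Iso.refl _) n ≪≫
    HomologicalComplex.singleObjHomologySelfIso _ _ _

theorem nIso_comp_iso {X Y Z : DerivedCategory C} {α : X ⟶ Y} {n : ℤ} (h : NIso α n) (e : Y ≅ Z) :
    NIso (α ≫ e.hom) n := by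
  refine ⟨fun i hi => ?_, ?_⟩
  · haveI := h.1 i hi
    rw [Functor.map_comp]; infer_instance
  · haveI := h.2
    rw [Functor.map_comp]; exact epi_comp _ _

variable {P : ObjectProperty C}

theorem PC.of_iso {n : ℤ} {X Y : DerivedCategory C} (h : PC P n X) (e : X ≅ Y) : PC P n Y := by
  obtain ⟨E, hE, ⟨e'⟩⟩ := h
  exact ⟨E, hE, ⟨e' ≪≫ e⟩⟩

theorem PC.of_strict {n : ℤ} {E : CochainComplex C ℤ} (hE : PCoh.IsStrictPC P n E) :
    PC P n (DerivedCategory.Q.obj E) :=
  ⟨E, hE, ⟨Iso.refl _⟩⟩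

theorem PC.homology_bounded {n : ℤ} {X : DerivedCategory C} (h : PC P n X) :
    ∃ b : ℤ, ∀ j : ℤ, b ≤ j → IsZero ((DerivedCategory.homologyFunctor C j).obj X) := by
  obtain ⟨E, hE, ⟨e⟩⟩ := h
  obtain ⟨b, hb⟩ := isZero_homology_of_strict hE
  exact ⟨b, fun j hj => IsZero.of_iso (hb j hj) (homologyIso e j)⟩

variable [P.IsClosedUnderIsomorphisms]

theorem PC.mono_deg {n m : ℤ} {X : DerivedCategory C} (h : PC P n X) (hnm : n ≤ m) : PC P m X := by
  obtain ⟨E, hE, he⟩ := h
  exact ⟨E, IsStrictPC.mono_deg hE hnm, he⟩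

theorem PC.shift {n : ℤ} {X : DerivedCategory C} (h : PC P n X) (m n' : ℤ) (hn' : n' + m = n) :
    PC P n' ((shiftFunctor (DerivedCategory C) m).obj X) := by
  obtain ⟨E, ⟨⟨b, hb⟩, hP⟩, ⟨e⟩⟩ := h
  refine ⟨(shiftFunctor (CochainComplex C ℤ) m).obj E, ⟨⟨b - m, fun i hi => ?_⟩, fun i hi => ?_⟩,
    ⟨((DerivedCategory.Q (C := C)).commShiftIso m).app E ≪≫
      (shiftFunctor (DerivedCategory C) m).mapIso e⟩⟩
  · exact IsZero.of_iso (hb (i + m) (by omega)) (E.shiftFunctorObjXIso m i (i + m) rfl)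
  · exact P.prop_of_iso (E.shiftFunctorObjXIso m i (i + m) rfl).symm (hP _ (by omega))

variable [P.ContainsZero]

theorem exists_qis_of_pc (h : Hyp P) {n : ℤ} {F : CochainComplex C ℤ}
    (hF : PC P n (DerivedCategory.Q.obj F)) :
    ∃ (G : CochainComplex C ℤ) (w : G ⟶ F), PCoh.IsStrictPC P n G ∧ QuasiIso w := by
  obtain ⟨G, hG, ⟨e⟩⟩ := hF
  obtain ⟨X, s, hs, g, hg⟩ := DerivedCategory.right_fac e.hom
  haveI : QuasiIso s := (DerivedCategory.isIso_Q_map_iff_quasiIso C s).1 hs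
  obtain ⟨G', v, hG', hv⟩ := exists_strict_to h hG s
  haveI : QuasiIso g := by
    rw [← DerivedCategory.isIso_Q_map_iff_quasiIso]
    have : DerivedCategory.Q.map g = DerivedCategory.Q.map s ≫ e.hom := by simp [hg]
    rw [this]; infer_instance
  exact ⟨G', v ≫ g, hG', inferInstance⟩

/-- Roofs with strict source. -/
theorem exists_roof (h : Hyp P) {n : ℤ} {E G : CochainComplex C ℤ}
    (hE : PCoh.IsStrictPC P n E) (f : DerivedCategory.Q.obj E ⟶ DerivedCategory.Q.obj G) :
    ∃ (E' : CochainComplex C ℤ) (s : E' ⟶ E) (g : E' ⟶ G), PCoh.IsStrictPC P n E' ∧ QuasiIso s ∧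
      DerivedCategory.Q.map g = DerivedCategory.Q.map s ≫ f := by
  obtain ⟨X, s, hs, g, hg⟩ := DerivedCategory.right_fac f
  haveI : QuasiIso s := (DerivedCategory.isIso_Q_map_iff_quasiIso C s).1 hs
  obtain ⟨E', v, hE', hv⟩ := exists_strict_to h hE s
  exact ⟨E', v ≫ s, v ≫ g, hE', inferInstance, by simp [hg]⟩

theorem PC.cone (h : Hyp P) {n : ℤ} (T : Triangle (DerivedCategory C))
    (hT : T ∈ distinguishedTriangles) (h₁ : PC P (n + 1) T.obj₁) (h₂ : PC P n T.obj₂) :
    PC P n T.obj₃ := by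
  obtain ⟨E, hE, ⟨e₁⟩⟩ := h₁
  obtain ⟨F, hF, ⟨e₂⟩⟩ := h₂
  obtain ⟨E', s, g, hE', hs, hg⟩ := exists_roof h hE (e₁.hom ≫ T.mor₁ ≫ e₂.inv)
  haveI : IsIso (DerivedCategory.Q.map s) :=
    (DerivedCategory.isIso_Q_map_iff_quasiIso C s).2 hs
  refine ⟨_, IsStrictPC.cone h hE' hF g, ⟨Triangle.π₃.mapIso
    (isoTriangleOfIso₁₂ _ _ (DerivedCategory.mappingCone_triangle_distinguished g) hT
      ((asIso (DerivedCategory.Q.map s) ≪≫ e₁ :)) e₂ ?_)⟩⟩
  change DerivedCategory.Q.map g ≫ e₂.hom = (DerivedCategory.Q.map s ≫ e₁.hom) ≫ T.mor₁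
  rw [hg]; simp

theorem PC.middle (h : Hyp P) {n : ℤ} (T : Triangle (DerivedCategory C))
    (hT : T ∈ distinguishedTriangles) (h₁ : PC P n T.obj₁) (h₃ : PC P n T.obj₃) :
    PC P n T.obj₂ :=
  PC.cone h T.invRotate (inv_rot_of_distTriang _ hT) (h₃.shift (-1) (n + 1) (by omega)) h₁

theorem PC.first (h : Hyp P) {n : ℤ} (T : Triangle (DerivedCategory C))
    (hT : T ∈ distinguishedTriangles) (h₂ : PC P (n + 1) T.obj₂) (h₃ : PC P n T.obj₃) :
    PC P (n + 1) T.obj₁ :=
  PC.cone h T.invRotate.invRotate (inv_rot_of_distTriang _ (inv_rot_of_distTriang _ hT))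
    (h₂.shift (-1) (n + 1 + 1) (by omega)) (h₃.shift (-1) (n + 1) (by omega))

theorem good_of_pc (h : Hyp P) {n : ℤ} {F : CochainComplex C ℤ}
    (hF : PC P n (DerivedCategory.Q.obj F)) : Good P n F := by
  obtain ⟨G, w, hG, hw⟩ := exists_qis_of_pc h hF
  haveI : IsIso (DerivedCategory.Q.map w) := (DerivedCategory.isIso_Q_map_iff_quasiIso C w).2 hw
  intro E u hE m hm hu
  have hz := (nqis_iff_cone u (m + 1)).1 hu
  obtain ⟨K, hK, ⟨e⟩⟩ := PC.cone h _ (DerivedCategory.mappingCone_triangle_distinguished u)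
    (PC.of_strict (IsStrictPC.mono_deg hE (by omega))) hF
  let e' : ∀ i, K.homology i ≅ (CochainComplex.mappingCone u).homology i := fun i =>
    (homologyIso e i).symm ≪≫
      (DerivedCategory.homologyFunctorFactors C i).app (CochainComplex.mappingCone u)
  obtain ⟨b, hb⟩ := hK.1
  exact finiteType_of_iso (e' m) (finiteType_homology h.qs K m b hb
    (fun i hi => hK.2 i (hm.trans hi)) fun i hi => IsZero.of_iso (hz i (by omega)) (e' i))

theorem finiteType_of_pc (h : Hyp P) {n : ℤ} {X : DerivedCategory C} (hX : PC P n X)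
    (hac : ∀ i : ℤ, n < i → IsZero ((DerivedCategory.homologyFunctor C i).obj X)) :
    PCoh.IsOfFiniteType P ((DerivedCategory.homologyFunctor C n).obj X) := by
  obtain ⟨K, hK, ⟨e⟩⟩ := hX
  obtain ⟨b, hb⟩ := hK.1
  exact finiteType_of_iso (homologyIso e n).symm (finiteType_homology h.qs K n b hb hK.2
    fun i hi => IsZero.of_iso (hac i hi) (homologyIso e i).symm)

open ZeroObject in
theorem pc_of_finiteType (h : Hyp P) {n : ℤ} {X : DerivedCategory C}
    (hac : ∀ i : ℤ, n < i → IsZero ((DerivedCategory.homologyFunctor C i).obj X))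
    (hft : PCoh.IsOfFiniteType P ((DerivedCategory.homologyFunctor C n).obj X)) : PC P n X := by
  obtain ⟨F, ⟨e⟩⟩ := exists_model X
  let u : (0 : CochainComplex C ℤ) ⟶ F := 0
  have hu : NQis u (n + 1) := nqis_of_isZero (isZero_zero _) u _
    fun j hj => IsZero.of_iso (hac j (by omega)) (homologyIso e j).symm
  haveI : IsIso (CochainComplex.mappingCone.inr u) := by
    haveI : ∀ i, IsIso ((CochainComplex.mappingCone.inr u).f i) := fun i => by
      refine ⟨(CochainComplex.mappingCone.snd u).v i i (add_zero i),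
        CochainComplex.mappingCone.inr_f_snd_v u i, ?_⟩
      refine Eq.trans ?_ (CochainComplex.mappingCone.id_X u i (i + 1) rfl)
      exact (zero_add _).symm.trans (congrArg (· + _)
        (zero_comp.symm.trans (congrArg (· ≫ _)
          (((HomologicalComplex.eval C _ (i + 1)).map_isZero (isZero_zero _)).eq_of_tgt _ _))))
    exact HomologicalComplex.Hom.isIso_of_components _
  obtain ⟨E', v, u', -, -, hiso, -, hP, hu'⟩ := exists_modify h.sum h.ql n u hu
    (finiteType_of_iso (homologyIso e n ≪≫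
      asIso (homologyMap (CochainComplex.mappingCone.inr u) n)) hft)
  obtain ⟨E'', v', u'', -, hq, -, hiso'⟩ := NQisLib.exists_factorisation u' n hu'.1 hu'.2
  have hz : ∀ j : ℤ, j ≠ n → IsZero (E'.X j) := fun j hj => by
    haveI := hiso j hj
    exact IsZero.of_iso ((HomologicalComplex.eval C _ j).map_isZero (isZero_zero _))
      (asIso (v.f j)).symm
  haveI : IsIso (DerivedCategory.Q.map u'') :=
    (DerivedCategory.isIso_Q_map_iff_quasiIso C _).2 hq
  refine ⟨E'', ⟨⟨n, fun j hj => ?_⟩, fun j hj => ?_⟩,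
    ⟨asIso (DerivedCategory.Q.map u'') ≪≫ e⟩⟩
  · haveI := hiso' j hj.le
    exact IsZero.of_iso (hz j (by omega)) (asIso (v'.f j)).symm
  · haveI := hiso' j hj
    refine P.prop_of_iso (asIso (v'.f j)) ?_
    rcases eq_or_ne j n with rfl | hne
    · exact hP (P.prop_of_isZero ((HomologicalComplex.eval C _ j).map_isZero (isZero_zero _)))
    · exact P.prop_of_isZero (hz j hne)

/-- An `n`-isomorphism from a strict complex. -/
theorem pc_of_nIso (h : Hyp P) {n : ℤ} {X : DerivedCategory C} {E : CochainComplex C ℤ}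
    (hE : PCoh.IsStrictPC P n E) (α : DerivedCategory.Q.obj E ⟶ X) (hα : NIso α n) :
    PC P n X := by
  obtain ⟨F, ⟨e⟩⟩ := exists_model X
  obtain ⟨E', s, g, hE', hs, hg⟩ := exists_roof h hE (α ≫ e.inv)
  haveI : IsIso (DerivedCategory.Q.map s) :=
    (DerivedCategory.isIso_Q_map_iff_quasiIso C s).2 hs
  have hu : NQis g n := by
    rw [nqis_iff_nIso, hg]
    have hα' := nIso_comp_iso hα e.symm
    refine ⟨fun i hi => ?_, ?_⟩
    · haveI := hα'.1 i hi
      rw [Functor.map_comp]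
      exact IsIso.comp_isIso' inferInstance (hα'.1 i hi)
    · haveI := hα'.2
      rw [Functor.map_comp]
      exact @epi_comp _ _ _ _ _ _ inferInstance _ hα'.2
  obtain ⟨E'', v, u', -, hq, -, hiso⟩ := NQisLib.exists_factorisation g n hu.1 hu.2
  haveI : IsIso (DerivedCategory.Q.map u') :=
    (DerivedCategory.isIso_Q_map_iff_quasiIso C _).2 hq
  obtain ⟨b, hb⟩ := hE'.1
  refine ⟨E'', ⟨⟨max b n, fun j hj => ?_⟩, fun j hj => ?_⟩,
    ⟨asIso (DerivedCategory.Q.map u') ≪≫ e⟩⟩
  · haveI := hiso j (by omega)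
    exact IsZero.of_iso (hb j (by omega)) (asIso (v.f j)).symm
  · haveI := hiso j hj
    exact P.prop_of_iso (asIso (v.f j)) (hE'.2 j hj)

/-- A strictly perfect complex with an `n`-isomorphism. -/
theorem exists_perfect_nIso (h : Hyp P) {n : ℤ} {X : DerivedCategory C} (hX : PC P n X) (i : ℤ)
    (hni : n ≤ i) (hi : ∀ j : ℤ, i ≤ j → IsZero ((DerivedCategory.homologyFunctor C j).obj X)) :
    ∃ (E : CochainComplex C ℤ) (α : DerivedCategory.Q.obj E ⟶ X),
      (∀ j : ℤ, j < n ∨ i ≤ j → IsZero (E.X j)) ∧ (∀ j : ℤ, P (E.X j)) ∧ NIso α n := by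
  obtain ⟨F, hF, ⟨e⟩⟩ := hX
  obtain ⟨E, u, hz, hP, hu⟩ := exists_perfect h (good_of_strict h hF) i hni
    fun j hj => IsZero.of_iso (hi j hj) (homologyIso e j).symm
  exact ⟨E, DerivedCategory.Q.map u ≫ e.hom, hz, hP,
    nIso_comp_iso ((nqis_iff_nIso u n).1 hu) e⟩

theorem exists_strict_bounded (h : Hyp P) {n : ℤ} {X : DerivedCategory C} (hX : PC P n X) (i : ℤ)
    (hi : ∀ j : ℤ, i ≤ j → IsZero ((DerivedCategory.homologyFunctor C j).obj X)) :
    ∃ E : CochainComplex C ℤ, PCoh.IsStrictPC P n E ∧ (∀ j : ℤ, i ≤ j → IsZero (E.X j)) ∧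
      Nonempty (DerivedCategory.Q.obj E ≅ X) := by
  obtain ⟨F, hF, ⟨e⟩⟩ := hX
  obtain ⟨E, u, hE, hu, hz⟩ := exists_resolution h (good_of_strict h hF) i
    fun j hj => IsZero.of_iso (hi j hj) (homologyIso e j).symm
  haveI : IsIso (DerivedCategory.Q.map u) :=
    (DerivedCategory.isIso_Q_map_iff_quasiIso C _).2 hu
  exact ⟨E, hE, hz, ⟨asIso (DerivedCategory.Q.map u) ≪≫ e⟩⟩

end PQLib
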