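import Mathlib
import Groth.Agent.PQLib.Derived

/-!
# Pseudo-coherence and direct sums
-/

set_option autoImplicit false
set_option linter.style.haveILetI false

universe w v u

open CategoryTheory CategoryTheory.Limits CategoryTheory.Pretriangulated HomologicalComplex

namespace PQLib

section Additive

variable {A B : Type*} [Category* A] [Category* B] [Preadditive A] [Preadditive B]
  (G : A ⥤ B) [G.Additive] {W X Y Z : A} [HasBinaryBiproduct W X] [HasBinaryBiproduct Y Z]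
  (f : W ⟶ Y) (g : X ⟶ Z)

theorem epi_map_biprod_map [Epi (G.map f)] [Epi (G.map g)] : Epi (G.map (biprod.map f g)) := by
  constructor
  intro T p q h
  have h₁ : G.map (biprod.inl : Y ⟶ Y ⊞ Z) ≫ p = G.map (biprod.inl : Y ⟶ Y ⊞ Z) ≫ q := by
    rw [← cancel_epi (G.map f)]
    have := congrArg (G.map (biprod.inl : W ⟶ W ⊞ X) ≫ ·) h
    simpa only [← Category.assoc, ← G.map_comp, biprod.inl_map] using this
  have h₂ : G.map (biprod.inr : Z ⟶ Y ⊞ Z) ≫ p = G.map (biprod.inr : Z ⟶ Y ⊞ Z) ≫ q := by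
    rw [← cancel_epi (G.map g)]
    have := congrArg (G.map (biprod.inr : X ⟶ W ⊞ X) ≫ ·) h
    simpa only [← Category.assoc, ← G.map_comp, biprod.inr_map] using this
  rw [← Category.id_comp p, ← Category.id_comp q, ← G.map_id, ← biprod.total, G.map_add,
    G.map_comp, G.map_comp, Preadditive.add_comp, Preadditive.add_comp, Category.assoc,
    Category.assoc, Category.assoc, Category.assoc, h₁, h₂]

theorem isIso_map_biprod_map [IsIso (G.map f)] [IsIso (G.map g)] :
    IsIso (G.map (biprod.map f g)) := by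
  haveI := epi_map_biprod_map G f g
  let s : G.obj (Y ⊞ Z) ⟶ G.obj (W ⊞ X) :=
    G.map biprod.fst ≫ inv (G.map f) ≫ G.map biprod.inl +
      G.map biprod.snd ≫ inv (G.map g) ≫ G.map biprod.inr
  have hs : G.map (biprod.map f g) ≫ s = 𝟙 _ := by
    simp only [s, Preadditive.comp_add, ← Category.assoc, ← G.map_comp, biprod.map_fst,
      biprod.map_snd]
    simp only [G.map_comp, Category.assoc, IsIso.hom_inv_id_assoc]
    rw [← G.map_comp, ← G.map_comp, ← G.map_add, biprod.total, G.map_id]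
  refine ⟨s, hs, ?_⟩
  rw [← cancel_epi (G.map (biprod.map f g)), reassoc_of% hs, Category.comp_id]

end Additive

variable {C : Type u} [Category.{v} C] [Abelian C] [HasDerivedCategory.{w} C]
  {P : ObjectProperty C}

theorem NIso.biprod_map {W X Y Z : DerivedCategory C} [HasBinaryBiproduct W X]
    [HasBinaryBiproduct Y Z] {f : W ⟶ Y} {g : X ⟶ Z} {n : ℤ} (hf : NIso f n) (hg : NIso g n) :
    NIso (biprod.map f g) n := by
  refine ⟨fun i hi => ?_, ?_⟩
  · haveI := hf.1 i hi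
    haveI := hg.1 i hi
    exact isIso_map_biprod_map _ f g
  · haveI := hf.2
    haveI := hg.2
    exact epi_map_biprod_map _ f g

variable [P.IsClosedUnderIsomorphisms]

theorem PC.biprod (h : Hyp P) {n : ℤ} {X Y : DerivedCategory C} [HasBinaryBiproduct X Y]
    (hX : PC P n X) (hY : PC P n Y) : PC P n (X ⊞ Y) := by
  obtain ⟨E, ⟨⟨b, hb⟩, hE⟩, ⟨e₁⟩⟩ := hX
  obtain ⟨F, ⟨⟨b', hb'⟩, hF⟩, ⟨e₂⟩⟩ := hY
  haveI := preservesBinaryBiproducts_of_preservesBiproducts (DerivedCategory.Q (C := C))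
  refine ⟨E ⊞ F, ⟨⟨max b b', fun i hi => IsZero.of_iso
    ((biprod_isZero_iff _ _).2 ⟨hb i (by omega), hb' i (by omega)⟩) (biprodXIso E F i)⟩,
    fun i hi => P.prop_of_iso (biprodXIso E F i).symm (h.biprod (hE i hi) (hF i hi))⟩,
    ⟨(DerivedCategory.Q (C := C)).mapBiprod E F ≪≫ biprod.mapIso e₁ e₂⟩⟩

variable [P.ContainsZero]

/-- Finite type top cohomology passes to retracts of cones. -/
theorem pc_of_retract (h : Hyp P) {m : ℤ} {A A' X X' : DerivedCategory C} (α : A ⟶ X) (ψ : A' ⟶ X')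
    (a : A ⟶ A') (a' : A' ⟶ A) (b : X ⟶ X') (b' : X' ⟶ X) (ha : a ≫ a' = 𝟙 A) (hb : b ≫ b' = 𝟙 X)
    (hab : α ≫ b = a ≫ ψ) (hab' : ψ ≫ b' = a' ≫ α) (hα : NIso α (m + 1)) (hψ : NIso ψ (m + 1))
    (hA : PC P m A) (hA' : PC P (m + 1) A') (hX' : PC P m X') : PC P m X := by
  obtain ⟨Z, f, g, hT⟩ := distinguished_cocone_triangle α
  obtain ⟨W, f', g', hT'⟩ := distinguished_cocone_triangle ψ
  obtain ⟨c, hc₁, hc₂⟩ := complete_distinguished_triangle_morphism _ _ hT hT' a b hab
  obtain ⟨c', hc₁', hc₂'⟩ := complete_distinguished_triangle_morphism _ _ hT' hT a' b' hab'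
  let φ₁ : Triangle.mk α f g ⟶ Triangle.mk ψ f' g' :=
    { hom₁ := a, hom₂ := b, hom₃ := c, comm₁ := hab, comm₂ := hc₁, comm₃ := hc₂ }
  let φ₂ : Triangle.mk ψ f' g' ⟶ Triangle.mk α f g :=
    { hom₁ := a', hom₂ := b', hom₃ := c', comm₁ := hab', comm₂ := hc₁', comm₃ := hc₂' }
  haveI : IsIso (c ≫ c') := by
    have h1 : IsIso (φ₁ ≫ φ₂).hom₁ := by
      change IsIso (a ≫ a'); rw [ha]; infer_instance
    have h2 : IsIso (φ₁ ≫ φ₂).hom₂ := by
      change IsIso (b ≫ b'); rw [hb]; infer_instance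
    exact isIso₃_of_isIso₁₂ (φ₁ ≫ φ₂) hT hT h1 h2
  have hepi : Epi ((DerivedCategory.homologyFunctor C m).map c') := by
    have : Epi ((DerivedCategory.homologyFunctor C m).map (c ≫ c')) := inferInstance
    rw [Functor.map_comp] at this
    exact @epi_of_epi _ _ _ _ _ _ _ this
  have hW : PC P m W := PC.cone h _ hT' hA' hX'
  have hWz := (nIso_iff_cone _ hT' (m + 1)).1 hψ
  have hZz := (nIso_iff_cone _ hT (m + 1)).1 hα
  have hZ : PC P m Z := pc_of_finiteType h (fun i hi => hZz i (by omega))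
    (@finiteType_of_epi _ _ _ _ _ _ ((DerivedCategory.homologyFunctor C m).map c') hepi
      (finiteType_of_pc h hW fun i hi => hWz i (by omega)))
  exact PC.middle h _ hT hA hZ

open ZeroObject in
theorem pc_of_biprod (h : Hyp P) {n : ℤ} {X Y : DerivedCategory C} [HasBinaryBiproduct X Y]
    (hXY : PC P n (X ⊞ Y)) : PC P n X ∧ PC P n Y := by
  obtain ⟨b, hb⟩ := hXY.homology_bounded
  have hbX : ∀ j, b ≤ j → IsZero ((DerivedCategory.homologyFunctor C j).obj X) := fun j hj =>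
    IsZero.of_mono ((DerivedCategory.homologyFunctor C j).map (biprod.inl : X ⟶ X ⊞ Y)) (hb j hj)
  have hbY : ∀ j, b ≤ j → IsZero ((DerivedCategory.homologyFunctor C j).obj Y) := fun j hj =>
    IsZero.of_mono ((DerivedCategory.homologyFunctor C j).map (biprod.inr : Y ⟶ X ⊞ Y)) (hb j hj)
  suffices key : ∀ (k : ℕ) (m : ℤ), n ≤ m → b ≤ m + k → PC P m X ∧ PC P m Y from
    key (b - n).toNat n le_rfl (by omega)
  intro k
  induction k with
  | zero =>
    intro m _ hm
    have ft : ∀ {A : C}, IsZero A → PCoh.IsOfFiniteType P A := fun {A} hA =>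
      ⟨A, 𝟙 A, P.prop_of_isZero hA, inferInstance⟩
    exact ⟨pc_of_finiteType h (fun i hi => hbX i (by omega)) (ft (hbX m (by omega))),
      pc_of_finiteType h (fun i hi => hbY i (by omega)) (ft (hbY m (by omega)))⟩
  | succ k ih =>
    intro m hnm hm
    obtain ⟨hX, hY⟩ := ih (m + 1) (by omega) (by push_cast at hm ⊢; omega)
    obtain ⟨E₁, α, hz₁, hP₁, hα⟩ := exists_perfect_nIso h hX (max b (m + 1)) (le_max_right _ _)
      fun j hj => hbX j ((le_max_left _ _).trans hj)
    obtain ⟨E₂, β, hz₂, hP₂, hβ⟩ := exists_perfect_nIso h hY (max b (m + 1)) (le_max_right _ _)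
      fun j hj => hbY j ((le_max_left _ _).trans hj)
    have hE₁ : ∀ l : ℤ, PC P l (DerivedCategory.Q.obj E₁) := fun l => PC.of_strict
      ⟨⟨max b (m + 1), fun i hi => hz₁ i (Or.inr hi.le)⟩, fun i _ => hP₁ i⟩
    have hE₂ : ∀ l : ℤ, PC P l (DerivedCategory.Q.obj E₂) := fun l => PC.of_strict
      ⟨⟨max b (m + 1), fun i hi => hz₂ i (Or.inr hi.le)⟩, fun i _ => hP₂ i⟩
    have hA := PC.biprod h (hE₁ (m + 1)) (hE₂ (m + 1))
    have hψ := hα.biprod_map hβ
    exact ⟨pc_of_retract h α (biprod.map α β) biprod.inl biprod.fst biprod.inl biprod.fst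
        biprod.inl_fst biprod.inl_fst (biprod.inl_map α β).symm (biprod.map_fst α β) hα hψ (hE₁ m)
        hA (hXY.mono_deg hnm),
      pc_of_retract h β (biprod.map α β) biprod.inr biprod.snd biprod.inr biprod.snd
        biprod.inr_snd biprod.inr_snd (biprod.inr_map α β).symm (biprod.map_snd α β) hβ hψ (hE₂ m)
        hA (hXY.mono_deg hnm)⟩

end PQLib
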