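import Mathlib
import Groth.Agent.PQLib.Derived

/-!
# Complexes with pseudo-coherent terms
-/

set_option autoImplicit false
set_option linter.style.haveILetI false

universe w v u

open CategoryTheory CategoryTheory.Limits CategoryTheory.Pretriangulated HomologicalComplex
  CochainComplex.HomComplex

namespace PQLib

open CochainComplex

variable {C : Type u} [Category.{v} C] [Abelian C] [HasDerivedCategory.{w} C]
  {P : ObjectProperty C} [P.IsClosedUnderIsomorphisms] [P.ContainsZero]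

omit [P.ContainsZero] in
theorem pc_single {n : ℤ} {A : C} (k : ℤ)
    (h : PC P (n - k) ((DerivedCategory.singleFunctor C 0).obj A)) :
    PC P n ((DerivedCategory.singleFunctor C k).obj A) :=
  (h.shift (-k) n (by omega)).of_iso
    (((DerivedCategory.singleFunctors C).shiftIso (-k) k 0 (by omega)).app A)

omit [P.ContainsZero] in
theorem pc_single_zero {n : ℤ} {A : C} (k : ℤ)
    (h : PC P n ((DerivedCategory.singleFunctor C k).obj A)) :
    PC P (n - k) ((DerivedCategory.singleFunctor C 0).obj A) :=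
  (h.shift k (n - k) (sub_add_cancel n k)).of_iso
    (((DerivedCategory.singleFunctors C).shiftIso k 0 k (by omega)).app A)

/-- One step of the stupid filtration. -/
theorem exists_stupid_triangle {l : ℤ} {F G : CochainComplex C ℤ} (φ : G ⟶ F)
    (hiso : ∀ j : ℤ, l < j → IsIso (φ.f j)) (hzero : ∀ j : ℤ, j ≤ l → IsZero (G.X j)) :
    ∃ (G' : CochainComplex C ℤ) (φ' : G' ⟶ F), (∀ j : ℤ, l ≤ j → IsIso (φ'.f j)) ∧
      (∀ j : ℤ, j < l → IsZero (G'.X j)) ∧
      ∃ T : Triangle (DerivedCategory C), T ∈ distinguishedTriangles ∧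
        T.obj₁ = (DerivedCategory.singleFunctor C (l + 1)).obj (F.X l) ∧
        T.obj₂ = DerivedCategory.Q.obj G ∧ T.obj₃ = DerivedCategory.Q.obj G' := by
  haveI h1 := hiso (l + 1) (by omega)
  haveI h2 := hiso (l + 1 + 1) (by omega)
  let x : F.X l ⟶ G.X (l + 1) := F.d l (l + 1) ≫ inv (φ.f (l + 1))
  have hx : x ≫ G.d (l + 1) (l + 1 + 1) = 0 := by
    rw [← cancel_mono (φ.f (l + 1 + 1)), zero_comp, Category.assoc, ← φ.comm]
    simp only [x, Category.assoc, IsIso.inv_hom_id_assoc, HomologicalComplex.d_comp_d]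
  let w : (CochainComplex.singleFunctor C (l + 1)).obj (F.X l) ⟶ G :=
    mkHomFromSingle x (fun k hk => by
      obtain rfl : l + 1 + 1 = k := hk
      exact hx)
  let α : Cochain ((CochainComplex.singleFunctor C (l + 1)).obj (F.X l)) F (-1) :=
    Cochain.fromSingleMk (𝟙 (F.X l)) (show l + 1 + -1 = l by omega)
  have hα : δ (-1) 0 α = Cochain.ofHom (w ≫ φ) := by
    rw [Cochain.δ_fromSingleMk (𝟙 (F.X l)) (show l + 1 + -1 = l by omega) 0 (l + 1) (add_zero _)]
    ext p
    by_cases hp : p = l + 1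
    · subst hp
      rw [Cochain.fromSingleMk_v, Cochain.ofHom_v, HomologicalComplex.comp_f, mkHomFromSingle_f]
      refine Eq.trans ?_ (Category.assoc _ _ _).symm
      simp [x]
      rfl
    · exact (isZero_single_obj_X _ _ _ _ hp).eq_of_src _ _
  let φ' : mappingCone w ⟶ F := mappingCone.desc w α φ hα
  refine ⟨mappingCone w, φ', fun j hj => ?_, fun j hj => ?_, ?_⟩
  · rcases hj.lt_or_eq with hj | rfl
    · haveI := hiso j hj
      have hinr : IsIso ((mappingCone.inr w).f j) := by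
        refine ⟨(mappingCone.snd w).v j j (add_zero j), mappingCone.inr_f_snd_v w j, ?_⟩
        refine Eq.trans ?_ (mappingCone.id_X w j (j + 1) rfl)
        exact (zero_add _).symm.trans (congrArg (· + _) (zero_comp.symm.trans (congrArg (· ≫ _)
          ((isZero_single_obj_X (ComplexShape.up ℤ) (l + 1) (F.X l) (j + 1) (by omega)).eq_of_tgt
            _ _))))
      have hfac : (mappingCone.inr w).f j ≫ φ'.f j = φ.f j := mappingCone.inr_f_desc_f w α φ hα j
      exact @IsIso.of_isIso_fac_left _ _ _ _ _ _ _ _ hinr inferInstance hfac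
    · let e := HomologicalComplex.singleObjXSelf (ComplexShape.up ℤ) (l + 1) (F.X l)
      have hd : (mappingCone.inl w).v (l + 1) l (by omega) ≫ φ'.f l = e.hom ≫ 𝟙 _ := by
        rw [mappingCone.inl_v_desc_f, Cochain.fromSingleMk_v]
      have hfac : (e.inv ≫ (mappingCone.inl w).v (l + 1) l (by omega)) ≫ φ'.f l = 𝟙 _ :=
        (Category.assoc _ _ _).trans ((congrArg (e.inv ≫ ·) hd).trans (Iso.inv_hom_id_assoc e _))
      refine ⟨e.inv ≫ (mappingCone.inl w).v (l + 1) l (by omega), ?_, hfac⟩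
      rw [mappingCone.ext_from_iff _ (l + 1) l rfl]
      constructor
      · exact (Category.assoc _ _ _).symm.trans ((congrArg (· ≫ _) hd).trans
          ((congrArg (· ≫ _) (Category.comp_id e.hom)).trans
            ((e.hom_inv_id_assoc _).trans (Category.comp_id _).symm)))
      · exact (hzero l le_rfl).eq_of_src _ _
  · exact IsZero.of_iso ((biprod_isZero_iff _ _).2
      ⟨isZero_single_obj_X _ _ _ _ (by omega), hzero j hj.le⟩)
      (homotopyCofiber.XIsoBiprod w j (j + 1) rfl)
  · exact ⟨_, DerivedCategory.mappingCone_triangle_distinguished w, rfl, rfl, rfl⟩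

theorem exists_stupid_step (h : Hyp P) {n l : ℤ} {F G : CochainComplex C ℤ} (φ : G ⟶ F)
    (hiso : ∀ j : ℤ, l < j → IsIso (φ.f j)) (hzero : ∀ j : ℤ, j ≤ l → IsZero (G.X j))
    (hG : PC P n (DerivedCategory.Q.obj G))
    (hA : PC P (n - l) ((DerivedCategory.singleFunctor C 0).obj (F.X l))) :
    ∃ (G' : CochainComplex C ℤ) (φ' : G' ⟶ F), (∀ j : ℤ, l ≤ j → IsIso (φ'.f j)) ∧
      (∀ j : ℤ, j < l → IsZero (G'.X j)) ∧ PC P n (DerivedCategory.Q.obj G') := by
  obtain ⟨G', φ', h₁, h₂, T, hT, e₁, e₂, e₃⟩ := exists_stupid_triangle φ hiso hzero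
  refine ⟨G', φ', h₁, h₂, e₃ ▸ PC.cone h T hT ?_ (e₂ ▸ hG)⟩
  rw [e₁]
  exact pc_single (l + 1) (by rwa [show n + 1 - (l + 1) = n - l by omega])

open ZeroObject in
theorem exists_stupid (h : Hyp P) {n : ℤ} {F : CochainComplex C ℤ} {b : ℤ}
    (hb : ∀ i : ℤ, b < i → IsZero (F.X i))
    (hfp : ∀ i : ℤ, n ≤ i → PC P (n - i) ((DerivedCategory.singleFunctor C 0).obj (F.X i)))
    (k : ℕ) : ∀ l : ℤ, n ≤ l → b < l + k → ∃ (G : CochainComplex C ℤ) (φ : G ⟶ F),
      (∀ j : ℤ, l ≤ j → IsIso (φ.f j)) ∧ (∀ j : ℤ, j < l → IsZero (G.X j)) ∧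
      PC P n (DerivedCategory.Q.obj G) := by
  induction k with
  | zero =>
    intro l _ hl
    refine ⟨0, 0, fun j hj => ⟨0, ?_, ?_⟩, fun j _ =>
      (HomologicalComplex.eval C _ j).map_isZero (isZero_zero _),
      PC.of_strict (isStrictPC_of_isZero (isZero_zero _))⟩
    · exact ((HomologicalComplex.eval C _ j).map_isZero (isZero_zero _)).eq_of_src _ _
    · exact (hb j (by omega)).eq_of_src _ _
  | succ k ih =>
    intro l hnl hl
    obtain ⟨G, φ, hiso, hzero, hG⟩ := ih (l + 1) (by omega) (by push_cast at hl ⊢; omega)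
    exact exists_stupid_step h φ (fun j hj => hiso j (by omega)) (fun j hj => hzero j (by omega))
      hG (hfp l hnl)

theorem pc_of_terms (h : Hyp P) {n : ℤ} {F : CochainComplex C ℤ} {b : ℤ}
    (hb : ∀ i : ℤ, b < i → IsZero (F.X i))
    (hfp : ∀ i : ℤ, n ≤ i → PC P (n - i) ((DerivedCategory.singleFunctor C 0).obj (F.X i))) :
    PC P n (DerivedCategory.Q.obj F) := by
  obtain ⟨G, φ, hiso, -, hG⟩ := exists_stupid h hb hfp (b + 1 - n).toNat n le_rfl (by omega)
  have hφ : NQis φ n := by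
    refine ⟨fun i hi => homologyMap_isIso_of_isIso φ i (hiso _ (by omega)) (hiso _ (by omega))
      (hiso _ (by omega)), ?_⟩
    haveI := hiso n le_rfl
    haveI := hiso (n + 1) (by omega)
    exact homologyMap_epi_of_isIso φ n
  obtain ⟨K, hK, ⟨e⟩⟩ := hG
  refine pc_of_nIso h hK (e.hom ≫ DerivedCategory.Q.map φ) ?_
  have hn := (nqis_iff_nIso φ n).1 hφ
  refine ⟨fun i hi => ?_, ?_⟩
  · haveI := hn.1 i hi
    rw [Functor.map_comp]; infer_instance
  · haveI := hn.2
    rw [Functor.map_comp]; exact epi_comp _ _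

end PQLib
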