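import Mathlib
import Groth.Agent.PQLib.Stupid

/-!
# Pseudo-coherence and syzygies
-/

set_option autoImplicit false
set_option linter.style.haveILetI false

universe w v u

open CategoryTheory CategoryTheory.Limits CategoryTheory.Pretriangulated HomologicalComplex

namespace PQLib

variable {C : Type u} [Category.{v} C] [Abelian C]

/-- Cycles, terms, and next cycles. -/
theorem shortExact_cycles {ι : Type*} {c : ComplexShape ι} (K : HomologicalComplex C c) (i j : ι)
    (hij : c.Rel i j) (h : K.ExactAt j) :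
    (ShortComplex.mk (K.iCycles i) (K.toCycles i j)
      (by rw [← cancel_mono (K.iCycles j), Category.assoc, toCycles_i, iCycles_d, zero_comp])
      ).ShortExact := by
  haveI : Epi (K.toCycles i j) := Preadditive.epi_of_isZero_cokernel' _
    (K.homologyIsCokernel i j (c.prev_eq' hij)) ((exactAt_iff_isZero_homology _ _).1 h)
  refine ShortComplex.ShortExact.mk' (ShortComplex.exact_of_f_is_kernel _ ?_) inferInstance
    inferInstance
  refine KernelFork.IsLimit.ofι' _ _ fun {A} g hg => ⟨K.liftCycles g j (c.next_eq' hij) ?_, ?_⟩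
  · have := congrArg (· ≫ K.iCycles j) hg
    simpa using this
  · exact K.liftCycles_i _ _ _ _

variable [HasDerivedCategory.{w} C] {P : ObjectProperty C} [P.IsClosedUnderIsomorphisms]
  [P.ContainsZero]

theorem pc_single_of_mem {A : C} (hA : P A) (k n : ℤ) :
    PC P n ((DerivedCategory.singleFunctor C k).obj A) :=
  PC.of_strict (E := (HomologicalComplex.single C (ComplexShape.up ℤ) k).obj A)
    ⟨⟨k, fun i hi => isZero_single_obj_X _ _ _ _ (by omega)⟩, fun i _ => by
      rcases eq_or_ne i k with rfl | hne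
      · exact P.prop_of_iso (singleObjXSelf (ComplexShape.up ℤ) i A).symm hA
      · exact P.prop_of_isZero (isZero_single_obj_X _ _ _ _ hne)⟩

theorem pc_single_of_isZero {A : C} (hA : IsZero A) (k n : ℤ) :
    PC P n ((DerivedCategory.singleFunctor C k).obj A) :=
  pc_single_of_mem (P.prop_of_isZero hA) k n

theorem finiteType_of_pc_single (h : Hyp P) {A : C}
    (hA : PC P 0 ((DerivedCategory.singleFunctor C 0).obj A)) : PCoh.IsOfFiniteType P A :=
  finiteType_of_iso (homologySingleIso A 0)
    (finiteType_of_pc h hA fun i hi => isZero_homology_single A 0 i (by omega))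

theorem pc_single_of_finiteType (h : Hyp P) {A : C} (hA : PCoh.IsOfFiniteType P A) :
    PC P 0 ((DerivedCategory.singleFunctor C 0).obj A) :=
  pc_of_finiteType h (fun i hi => isZero_homology_single A 0 i (by omega))
    (finiteType_of_iso (homologySingleIso A 0).symm hA)

/-- Kernels in bounded exact complexes with pseudo-coherent terms. -/
theorem pc_exact_complex (h : Hyp P) (K : CochainComplex C ℕ) (hex : ∀ i, K.ExactAt i) {b : ℕ}
    (hb : ∀ i : ℕ, b < i → IsZero (K.X i))
    (hpc : ∀ i : ℕ, 1 ≤ i → ∀ n : ℤ, PC P n ((DerivedCategory.singleFunctor C 0).obj (K.X i))) :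
    ∀ n : ℤ, PC P n ((DerivedCategory.singleFunctor C 0).obj (K.X 0)) := by
  have key : ∀ (k i : ℕ), 1 ≤ i → b < i + k →
      ∀ n : ℤ, PC P n ((DerivedCategory.singleFunctor C 0).obj (K.cycles i)) := by
    intro k
    induction k with
    | zero => exact fun i _ hi n => pc_single_of_isZero (IsZero.of_mono (K.iCycles i) (hb i hi)) 0 n
    | succ k ih =>
      intro i hi hk n
      have hS := shortExact_cycles K i (i + 1) rfl (hex _)
      have := PC.first h (n := n - 1) _ hS.singleTriangle_distinguished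
        ((hpc i hi n).mono_deg (by omega)) (ih (i + 1) (by omega) (by omega) _)
      exact this.mono_deg (by omega)
  intro n
  have hS := shortExact_cycles K 0 1 rfl (hex 1)
  haveI := K.isIso_homologyπ 0 0 (by simp) (by simp)
  exact PC.middle h _ hS.singleTriangle_distinguished
    (pc_single_of_isZero (IsZero.of_iso ((exactAt_iff_isZero_homology _ _).1 (hex 0))
      (asIso (K.homologyπ 0))) 0 n)
    (key b 1 le_rfl (by omega) n)

/-- A partial resolution gives pseudo-coherence. -/
theorem pc_of_resolution (h : Hyp P) (n : ℕ) (K : ChainComplex C ℕ)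
    (hex : ∀ j : ℕ, j ≤ n → K.ExactAt j) (hP : ∀ j : ℕ, 1 ≤ j → j ≤ n + 1 → P (K.X j)) :
    PC P (-(n : ℤ)) ((DerivedCategory.singleFunctor C 0).obj (K.X 0)) := by
  have key : ∀ (k j : ℕ), j + k = n →
      PC P (-(k : ℤ)) ((DerivedCategory.singleFunctor C 0).obj (K.cycles j)) := by
    intro k
    induction k with
    | zero =>
      intro j hj
      haveI : Epi (K.toCycles (j + 1) j) :=
        (shortExact_cycles K (j + 1) j rfl (hex _ (by omega))).epi_g
      simpa using pc_single_of_finiteType h ⟨K.X (j + 1), K.toCycles (j + 1) j,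
        hP _ (by omega) (by omega), inferInstance⟩
    | succ k ih =>
      intro j hj
      have hS := shortExact_cycles K (j + 1) j rfl (hex _ (by omega))
      refine PC.cone h _ hS.singleTriangle_distinguished ?_
        (pc_single_of_mem (hP _ (by omega) (by omega)) 0 _)
      have := ih (j + 1) (by omega)
      rwa [show (-((k + 1 : ℕ) : ℤ)) + 1 = -(k : ℤ) by push_cast; ring]
  haveI := K.isIso_iCycles 0 0 (by simp) (by simp)
  exact (key n 0 (zero_add n)).of_iso
    ((DerivedCategory.singleFunctor C 0).mapIso (asIso (K.iCycles 0)))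

/-- Pseudo-coherence gives a partial resolution. -/
theorem exists_resolution_single (h : Hyp P) (n : ℕ) (F : C)
    (hF : PC P (-(n : ℤ)) ((DerivedCategory.singleFunctor C 0).obj F)) :
    ∃ K : ChainComplex C ℕ, Nonempty (K.X 0 ≅ F) ∧ (∀ j : ℕ, j ≤ n → K.ExactAt j) ∧
      (∀ j : ℕ, n + 1 < j → IsZero (K.X j)) ∧ (∀ j : ℕ, 1 ≤ j → j ≤ n + 1 → P (K.X j)) := by
  let S := (HomologicalComplex.single C (ComplexShape.up ℤ) 0).obj F
  obtain ⟨E, u, hz, hP, hu⟩ := exists_perfect (n := -(n : ℤ)) (F := S) h (good_of_pc h hF) 1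
    (by omega) fun j hj => (exactAt_iff_isZero_homology _ _).1
      (exactAt_single_obj _ _ _ _ (by omega))
  let M := CochainComplex.mappingCone u
  have hM := (nqis_iff_cone u _).1 hu
  let eM : ∀ i, M.X i ≅ E.X (i + 1) ⊞ S.X i := fun i =>
    homotopyCofiber.XIsoBiprod u i (i + 1) rfl
  let K : ChainComplex C ℕ := M.restriction (ComplexShape.embeddingUpIntLE 0)
  have hMex : ∀ i j k : ℤ, i + 1 = j → j + 1 = k → -(n : ℤ) ≤ j → (M.sc' i j k).Exact :=
    fun i j k hi hk hj => (HomologicalComplex.exactAt_iff' M i j k (by simp; omega) (by simp; omega)).1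
      ((exactAt_iff_isZero_homology _ _).2 (hM j hj))
  refine ⟨K, ⟨?_⟩, fun j hj => ?_, fun j hj => ?_, fun j h1 hj => ?_⟩
  · exact M.XIsoOfEq (show 0 - ((0 : ℕ) : ℤ) = 0 by simp) ≪≫ eM 0 ≪≫
      { hom := biprod.snd ≫ (singleObjXSelf (ComplexShape.up ℤ) 0 F).hom
        inv := (singleObjXSelf (ComplexShape.up ℤ) 0 F).inv ≫ biprod.inr
        hom_inv_id := by
          rw [Category.assoc, Iso.hom_inv_id_assoc]
          refine biprod.hom_ext' _ _ ((hz (0 + 1) (Or.inr (by omega))).eq_of_src _ _) ?_
          exact (biprod.inr_snd_assoc _).trans (Category.comp_id _).symm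
        inv_hom_id := (Category.assoc _ _ _).trans ((congrArg (_ ≫ ·)
          (biprod.inr_snd_assoc _)).trans (Iso.inv_hom_id _)) }
  · match j with
    | 0 =>
      rw [HomologicalComplex.exactAt_iff' K 1 0 0 (by simp) (by simp)]
      have h' := hMex (0 - ((1 : ℕ) : ℤ)) (0 - ((0 : ℕ) : ℤ)) 1 (by simp) (by simp) (by simp)
      have hz1 : IsZero (M.X 1) := IsZero.of_iso ((biprod_isZero_iff _ _).2
        ⟨hz _ (Or.inr (by omega)), isZero_single_obj_X _ _ _ _ (by omega)⟩) (eM 1)
      exact (ShortComplex.exact_iff_epi _ (K.shape 0 0 (by simp))).2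
        ((ShortComplex.exact_iff_epi
          (M.sc' (0 - ((1 : ℕ) : ℤ)) (0 - ((0 : ℕ) : ℤ)) 1) (hz1.eq_of_tgt _ _)).1 h')
    | i + 1 =>
      rw [HomologicalComplex.exactAt_iff' K (i + 2) (i + 1) i (by simp) (by simp)]
      exact hMex (0 - ((i + 2 : ℕ) : ℤ)) (0 - ((i + 1 : ℕ) : ℤ)) (0 - (i : ℤ)) (by omega)
        (by omega) (by omega)
  · exact IsZero.of_iso ((biprod_isZero_iff _ _).2
      ⟨hz _ (Or.inl (by omega)), isZero_single_obj_X _ _ _ _ (by omega)⟩) (eM (0 - (j : ℤ)))
  · exact P.prop_of_iso (eM (0 - (j : ℤ))).symm (h.biprod (hP _)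
      (P.prop_of_isZero (isZero_single_obj_X _ _ _ _ (by omega))))

end PQLib
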