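import Mathlib
import Groth.Agent.PQLib.Syzygy

/-!
# Pseudo-coherence through cohomology
-/

set_option autoImplicit false
set_option linter.style.haveILetI false

universe w v u

open CategoryTheory CategoryTheory.Limits CategoryTheory.Pretriangulated HomologicalComplex

namespace PQLib

variable {C : Type u} [Category.{v} C] [Abelian C] [HasDerivedCategory.{w} C]

/-- Splitting off the top cohomology. -/
theorem exists_top_triangle (X : DerivedCategory C) (c : ℤ)
    (hX : ∀ i : ℤ, c < i → IsZero ((DerivedCategory.homologyFunctor C i).obj X)) :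
    ∃ T : Triangle (DerivedCategory C), T ∈ distinguishedTriangles ∧ Nonempty (T.obj₂ ≅ X) ∧
      (∀ i : ℤ, c ≤ i → IsZero ((DerivedCategory.homologyFunctor C i).obj T.obj₁)) ∧
      (∀ i : ℤ, i < c → Nonempty ((DerivedCategory.homologyFunctor C i).obj T.obj₁ ≅
        (DerivedCategory.homologyFunctor C i).obj X)) ∧
      Nonempty (T.obj₃ ≅ (DerivedCategory.singleFunctor C c).obj
        ((DerivedCategory.homologyFunctor C c).obj X)) := by
  obtain ⟨K, ⟨e⟩⟩ := exists_model X
  let ι := K.ιTruncLE (c - 1)
  let T := DerivedCategory.Q.mapTriangle.obj (CochainComplex.mappingCone.triangle ι)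
  have hT : T ∈ distinguishedTriangles :=
    DerivedCategory.mappingCone_triangle_distinguished ι
  have h1z : ∀ i : ℤ, c ≤ i → IsZero ((DerivedCategory.homologyFunctor C i).obj T.obj₁) :=
    fun i hi => IsZero.of_iso ((exactAt_iff_isZero_homology _ _).1
      ((K.truncLE (c - 1)).exactAt_of_isLE (c - 1) i (by omega)))
      (homologyIso (E := K.truncLE (c - 1)) (Iso.refl _) i)
  have hιiso : ∀ i : ℤ, i < c → IsIso ((DerivedCategory.homologyFunctor C i).map T.mor₁) := by
    intro i hi
    have h : IsIso (homologyMap ι i) := (quasiIsoAt_iff_isIso_homologyMap _ _).1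
      (K.quasiIsoAt_ιTruncLE (c - 1) i (by omega))
    exact ((MorphismProperty.isomorphisms C).arrow_mk_iso_iff
      (Arrow.isoMk ((DerivedCategory.homologyFunctorFactors C i).app (K.truncLE (c - 1)))
        ((DerivedCategory.homologyFunctorFactors C i).app K)
        ((DerivedCategory.homologyFunctorFactors C i).hom.naturality ι).symm :
        Arrow.mk ((DerivedCategory.homologyFunctor C i).map (DerivedCategory.Q.map ι)) ≅
          Arrow.mk (homologyMap ι i))).2 h
  have h2z : ∀ i : ℤ, c < i → IsZero ((DerivedCategory.homologyFunctor C i).obj T.obj₂) :=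
    fun i hi => IsZero.of_iso (hX i hi) ((DerivedCategory.homologyFunctor C i).mapIso e)
  have h3z : ∀ i : ℤ, i ≠ c → IsZero ((DerivedCategory.homologyFunctor C i).obj T.obj₃) := by
    intro i hi
    refine (DerivedCategory.HomologySequence.exact₃ T hT i (i + 1) rfl).isZero_X₂ ?_ ?_
    · rcases lt_or_gt_of_ne hi with h | h
      · haveI := hιiso i h
        exact (DerivedCategory.HomologySequence.epi_homologyMap_mor₁_iff T hT i).1 inferInstance
      · exact (h2z i h).eq_of_src _ _
    · rcases lt_or_ge (i + 1) c with h | h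
      · haveI := hιiso (i + 1) h
        exact (DerivedCategory.HomologySequence.mono_homologyMap_mor₁_iff T hT i (i + 1) rfl).1
          inferInstance
      · exact (h1z (i + 1) h).eq_of_tgt _ _
  haveI : IsIso ((DerivedCategory.homologyFunctor C c).map T.mor₂) := by
    haveI := (DerivedCategory.HomologySequence.mono_homologyMap_mor₂_iff T hT c).2
      ((h1z c le_rfl).eq_of_src _ _)
    haveI := (DerivedCategory.HomologySequence.epi_homologyMap_mor₂_iff T hT c (c + 1) rfl).2
      ((h1z (c + 1) (by omega)).eq_of_tgt _ _)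
    exact isIso_of_mono_of_epi _
  haveI : T.obj₃.IsGE c := (DerivedCategory.isGE_iff _ _).2 fun i hi => h3z i hi.ne
  haveI : T.obj₃.IsLE c := (DerivedCategory.isLE_iff _ _).2 fun i hi => h3z i hi.ne'
  obtain ⟨A, ⟨eA⟩⟩ := DerivedCategory.exists_iso_singleFunctor_obj_of_isGE_of_isLE T.obj₃ c
  refine ⟨T, hT, ⟨e⟩, h1z, fun i hi => ?_, ⟨eA ≪≫ (DerivedCategory.singleFunctor C c).mapIso ?_⟩⟩
  · haveI := hιiso i hi
    exact ⟨asIso ((DerivedCategory.homologyFunctor C i).map T.mor₁) ≪≫
      (DerivedCategory.homologyFunctor C i).mapIso e⟩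
  · exact (homologySingleIso A c).symm ≪≫
      (DerivedCategory.homologyFunctor C c).mapIso eA.symm ≪≫
      (asIso ((DerivedCategory.homologyFunctor C c).map T.mor₂)).symm ≪≫
      (DerivedCategory.homologyFunctor C c).mapIso e

variable {P : ObjectProperty C} [P.IsClosedUnderIsomorphisms] [P.ContainsZero]

theorem pc_of_homology (h : Hyp P) {n : ℤ} (k : ℕ) : ∀ (X : DerivedCategory C),
    (∀ i : ℤ, n + k < i → IsZero ((DerivedCategory.homologyFunctor C i).obj X)) →
    (∀ i : ℤ, n ≤ i → PC P (n - i) ((DerivedCategory.singleFunctor C 0).obj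
      ((DerivedCategory.homologyFunctor C i).obj X))) → PC P n X := by
  induction k with
  | zero =>
    intro X hz hfp
    refine pc_of_finiteType h (fun i hi => hz i (by omega)) (finiteType_of_pc_single h ?_)
    simpa using hfp n le_rfl
  | succ k ih =>
    intro X hz hfp
    obtain ⟨T, hT, ⟨e₂⟩, h1z, h1i, ⟨e₃⟩⟩ := exists_top_triangle X (n + (k + 1 : ℕ)) hz
    refine (PC.middle h T hT (ih T.obj₁ (fun i hi => h1z i (by omega)) fun i hi => ?_)
      ((pc_single _ (hfp _ (by omega))).of_iso e₃.symm)).of_iso e₂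
    rcases lt_or_ge i (n + (k + 1 : ℕ)) with hlt | hge
    · obtain ⟨e⟩ := h1i i hlt
      exact (hfp i hi).of_iso ((DerivedCategory.singleFunctor C 0).mapIso e.symm)
    · exact pc_single_of_isZero (h1z i hge) 0 _

theorem pc_of_homology' (h : Hyp P) {n : ℤ} {X : DerivedCategory C} {b : ℤ}
    (hz : ∀ i : ℤ, b < i → IsZero ((DerivedCategory.homologyFunctor C i).obj X))
    (hfp : ∀ i : ℤ, n ≤ i → PC P (n - i) ((DerivedCategory.singleFunctor C 0).obj
      ((DerivedCategory.homologyFunctor C i).obj X))) : PC P n X :=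
  pc_of_homology h (b - n).toNat X (fun i hi => hz i (by omega)) hfp

end PQLib
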