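import Mathlib
import Groth.Agent.PQLib.Trunc

/-!
# The coherent case
-/

set_option autoImplicit false
set_option linter.style.haveILetI false

universe w v u

open CategoryTheory CategoryTheory.Limits CategoryTheory.Pretriangulated HomologicalComplex

namespace PQLib

variable {C : Type u} [Category.{v} C] [Abelian C] (P : ObjectProperty C)

/-- All kernels of maps from objects of `P` are of finite type. -/
def KerFT (X : C) : Prop := ∀ (E : C) (u : E ⟶ X), P E → PCoh.IsOfFiniteType P (kernel u)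

variable {P}

theorem kerFT_of_mono {X Y : C} (f : X ⟶ Y) [Mono f] (h : KerFT P Y) : KerFT P X := fun E u hE =>
  finiteType_of_iso (kernelCompMono u f) (h E (u ≫ f) hE)

variable [P.IsClosedUnderIsomorphisms]

/-- Extensions of finite type. -/
theorem finiteType_ext (hsum : ∀ X Y : C, P X → P Y → P (X ⨯ Y))
    (hql : PCoh.IsQuasiLiftable P) (S : ShortComplex C) (hS : S.ShortExact)
    (h₁ : PCoh.IsOfFiniteType P S.X₁) (h₃ : PCoh.IsOfFiniteType P S.X₃) :
    PCoh.IsOfFiniteType P S.X₂ := by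
  obtain ⟨A, p, hA, hp⟩ := h₁
  obtain ⟨B, q, hB, hq⟩ := h₃
  haveI := hS.epi_g
  obtain ⟨B', v, hB', hv⟩ := hql _ _ (pullback.snd S.g q) inferInstance hB
  refine ⟨A ⊞ B', biprod.desc (p ≫ S.f) (v ≫ pullback.fst S.g q),
    P.prop_of_iso (biprod.isoProd A B').symm (hsum A B' hA hB'), ?_⟩
  refine Preadditive.epi_of_cancel_zero _ fun {W} k hk => ?_
  have h1 : (p ≫ S.f) ≫ k = 0 := by
    simpa using congrArg (biprod.inl ≫ ·) hk
  have h2 : (v ≫ pullback.fst S.g q) ≫ k = 0 := by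
    simpa using congrArg (biprod.inr ≫ ·) hk
  have h1' : S.f ≫ k = 0 := by
    rw [← cancel_epi p, ← Category.assoc, h1, comp_zero]
  obtain ⟨k', hk'⟩ := CokernelCofork.IsColimit.desc' hS.gIsCokernel k h1'
  change S.g ≫ k' = k at hk'
  have : k' = 0 := by
    haveI : Epi ((v ≫ pullback.snd S.g q) ≫ q) := epi_comp _ _
    rw [← cancel_epi ((v ≫ pullback.snd S.g q) ≫ q), comp_zero]
    calc ((v ≫ pullback.snd S.g q) ≫ q) ≫ k'
        = (v ≫ pullback.fst S.g q) ≫ (S.g ≫ k') := by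
          simp only [Category.assoc, pullback.condition_assoc]
      _ = 0 := by rw [hk', h2]
  rw [← hk', this, comp_zero]

omit [P.IsClosedUnderIsomorphisms] in
/-- Extensions of coherence. -/
theorem kerFT_ext (S : ShortComplex C) (hS : S.ShortExact) (h₁ : KerFT P S.X₁)
    (h₃ : KerFT P S.X₃) : KerFT P S.X₂ := by
  intro E u hE
  obtain ⟨K, p, hK, hp⟩ := h₃ E (u ≫ S.g) hE
  have hpu : (p ≫ kernel.ι (u ≫ S.g) ≫ u) ≫ S.g = 0 := by simp
  haveI := hS.mono_f
  obtain ⟨v, hv⟩ := KernelFork.IsLimit.lift' hS.fIsKernel _ hpu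
  change v ≫ S.f = _ at hv
  obtain ⟨L, q, hL, hq⟩ := h₁ K v hK
  have hl : (q ≫ kernel.ι v ≫ p ≫ kernel.ι (u ≫ S.g)) ≫ u = 0 := by
    simp only [Category.assoc, ← hv, kernel.condition_assoc, zero_comp, comp_zero]
  refine ⟨L, kernel.lift u _ hl, hL, ?_⟩
  rw [epi_iff_surjective_up_to_refinements]
  intro A a
  obtain ⟨A₁, π₁, _, b, hb⟩ := surjective_up_to_refinements_of_epi p
    (kernel.lift (u ≫ S.g) (a ≫ kernel.ι u) (by simp))
  have hbv : b ≫ v = 0 := by
    rw [← cancel_mono S.f, Category.assoc, hv, zero_comp, ← Category.assoc, ← hb]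
    simp
  obtain ⟨A₂, π₂, _, c, hc⟩ := surjective_up_to_refinements_of_epi q (kernel.lift v b hbv)
  refine ⟨A₂, π₂ ≫ π₁, epi_comp _ _, c, ?_⟩
  rw [← cancel_mono (kernel.ι u)]
  have h2 := congrArg (· ≫ kernel.ι v) hc
  have h1 := congrArg (· ≫ kernel.ι (u ≫ S.g)) hb
  simp only [Category.assoc, kernel.lift_ι] at h1 h2 ⊢
  rw [h1, ← reassoc_of% h2]

/-- Cokernels of maps into coherent objects. -/
theorem kerFT_coker (hsum : ∀ X Y : C, P X → P Y → P (X ⨯ Y)) (hql : PCoh.IsQuasiLiftable P)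
    (S : ShortComplex C) (hS : S.Exact) [Epi S.g] (h₁ : P S.X₁) (h₂ : KerFT P S.X₂) :
    KerFT P S.X₃ := by
  intro E u hE
  obtain ⟨E', v, hE', hv⟩ := hql _ _ (pullback.snd S.g u) inferInstance hE
  let p := v ≫ pullback.snd S.g u
  let g := v ≫ pullback.fst S.g u
  have hgp : g ≫ S.g = p ≫ u := by simp [g, p, pullback.condition]
  let h : E' ⊞ S.X₁ ⟶ S.X₂ := biprod.desc g S.f
  obtain ⟨L, q, hL, hq⟩ := h₂ (E' ⊞ S.X₁) h
    (P.prop_of_iso (biprod.isoProd _ _).symm (hsum _ _ hE' h₁))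
  have hl : (q ≫ kernel.ι h ≫ biprod.fst ≫ p) ≫ u = 0 := by
    have h0 := kernel.condition h
    have : biprod.desc g S.f ≫ S.g = biprod.fst ≫ p ≫ u := by
      refine biprod.hom_ext' _ _ ?_ ?_ <;> simp [hgp, S.zero]
    simp only [Category.assoc, ← this]
    change q ≫ kernel.ι h ≫ h ≫ S.g = 0
    simp
  refine ⟨L, kernel.lift u _ hl, hL, ?_⟩
  rw [epi_iff_surjective_up_to_refinements]
  intro A a
  haveI : Epi p := hv
  obtain ⟨A₁, π₁, _, b, hb⟩ := surjective_up_to_refinements_of_epi p (a ≫ kernel.ι u)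
  have hbg : (b ≫ g) ≫ S.g = 0 := by
    rw [Category.assoc, hgp, ← Category.assoc, ← hb]
    simp
  obtain ⟨A₂, π₂, _, c, hc⟩ := hS.exact_up_to_refinements (b ≫ g) hbg
  have hk : biprod.lift (π₂ ≫ b) (-c) ≫ h = 0 := by
    simp only [h, biprod.lift_desc, Category.assoc, Preadditive.neg_comp, hc, add_neg_cancel]
  obtain ⟨A₃, π₃, _, d, hd⟩ := surjective_up_to_refinements_of_epi q
    (kernel.lift h _ hk)
  refine ⟨A₃, π₃ ≫ π₂ ≫ π₁, inferInstance, d, ?_⟩
  rw [← cancel_mono (kernel.ι u)]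
  have h3 := congrArg (· ≫ kernel.ι h ≫ biprod.fst) hd
  simp only [Category.assoc, kernel.lift_ι_assoc, biprod.lift_fst] at h3
  simp only [Category.assoc, kernel.lift_ι, hb]
  rw [← reassoc_of% h3]

theorem qs_of_coherent
    (hcoh : ∀ (X E : C) (u : E ⟶ X), P X → P E → PCoh.IsOfFiniteType P (kernel u)) :
    PCoh.IsQuasiStableUnderKernels P := by
  intro K hex _ hP
  haveI := K.isIso_homologyπ 0 0 (by simp) (by simp)
  have h0 : IsZero (K.cycles 0) :=
    IsZero.of_iso ((exactAt_iff_isZero_homology _ _).1 (hex 0)) (asIso (K.homologyπ 0))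
  have hS := shortExact_cycles K 0 1 rfl (hex 1)
  haveI : IsIso (K.toCycles 0 1) := hS.isIso_g_iff.2 h0
  exact finiteType_of_iso ((kernelIsKernel (K.d 1 2)).conePointUniqueUpToIso
      (K.cyclesIsKernel 1 2 (by simp)) ≪≫ (asIso (K.toCycles 0 1)).symm)
    (hcoh _ _ (K.d 1 2) (hP 2 (by omega)) (hP 1 le_rfl))

/-- Cycles in the coherent case. -/
theorem cycles_coherent
    (hcoh : ∀ (X E : C) (u : E ⟶ X), P X → P E → PCoh.IsOfFiniteType P (kernel u))
    (K : CochainComplex C ℤ) (i : ℤ) (h₀ : P (K.X i)) (h₁ : P (K.X (i + 1))) :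
    PCoh.IsOfFiniteType P (K.cycles i) ∧ KerFT P (K.cycles i) :=
  ⟨finiteType_of_iso ((kernelIsKernel (K.d i (i + 1))).conePointUniqueUpToIso
      (K.cyclesIsKernel i (i + 1) (by simp))) (hcoh _ _ _ h₁ h₀),
    kerFT_of_mono (K.iCycles i) fun E u hE => hcoh _ E u h₀ hE⟩

variable [HasDerivedCategory.{w} C] [P.ContainsZero]

theorem pc_single_of_coherent (h : Hyp P)
    (hcoh : ∀ (X E : C) (u : E ⟶ X), P X → P E → PCoh.IsOfFiniteType P (kernel u)) (k : ℕ) :
    ∀ X : C, PCoh.IsOfFiniteType P X → KerFT P X →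
      PC P (-(k : ℤ)) ((DerivedCategory.singleFunctor C 0).obj X) := by
  induction k with
  | zero => exact fun X hX _ => by simpa using pc_single_of_finiteType h hX
  | succ k ih =>
    intro X hX hk
    obtain ⟨E, p, hE, hp⟩ := hX
    have hS : (ShortComplex.mk (kernel.ι p) p (kernel.condition p)).ShortExact :=
      ShortComplex.ShortExact.mk' (ShortComplex.exact_of_f_is_kernel _ (kernelIsKernel p))
        inferInstance inferInstance
    refine PC.cone h _ hS.singleTriangle_distinguished ?_ (pc_single_of_mem hE 0 _)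
    have := ih (kernel p) (hk E p hE) (kerFT_of_mono (kernel.ι p) fun A u hA => hcoh _ A u hE hA)
    rwa [show (-((k + 1 : ℕ) : ℤ)) + 1 = -(k : ℤ) by push_cast; ring]

/-- Pseudo-coherence in the coherent case. -/
theorem pc_iff_coherent (hsum : ∀ X Y : C, P X → P Y → P (X ⨯ Y)) (hql : PCoh.IsQuasiLiftable P)
    (hcoh : ∀ (X E : C) (u : E ⟶ X), P X → P E → PCoh.IsOfFiniteType P (kernel u))
    (n : ℤ) (F : DerivedCategory C) (b : ℤ)
    (hb : ∀ i : ℤ, b < i → IsZero ((DerivedCategory.homologyFunctor C i).obj F)) :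
    PC P n F ↔ (PCoh.IsOfFiniteType P ((DerivedCategory.homologyFunctor C n).obj F) ∧
      ∀ i : ℤ, n < i → (PCoh.IsOfFiniteType P ((DerivedCategory.homologyFunctor C i).obj F) ∧
        KerFT P ((DerivedCategory.homologyFunctor C i).obj F))) := by
  have h : Hyp P := ⟨hsum, qs_of_coherent hcoh, hql⟩
  constructor
  · rintro ⟨K, hK, ⟨e⟩⟩
    have hft : ∀ i, n ≤ i →
        PCoh.IsOfFiniteType P ((DerivedCategory.homologyFunctor C i).obj F) := fun i hi =>
      finiteType_of_iso (homologyIso e i).symm (finiteType_of_epi (K.homologyπ i)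
        (cycles_coherent hcoh K i (hK.2 i hi) (hK.2 _ (by omega))).1)
    refine ⟨hft n le_rfl, fun i hi => ⟨hft i hi.le,
      kerFT_of_mono (homologyIso e i).hom ?_⟩⟩
    have hc := cycles_coherent hcoh K i (hK.2 i hi.le) (hK.2 _ (by omega))
    let S := ShortComplex.mk (K.toCycles (i - 1) i) (K.homologyπ i) (by simp)
    haveI : Epi S.g := inferInstanceAs (Epi (K.homologyπ i))
    exact kerFT_coker hsum hql S (S.exact_of_g_is_cokernel
      (K.homologyIsCokernel (i - 1) i (by simp))) (hK.2 _ (by omega)) hc.2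
  · rintro ⟨hn, hi⟩
    refine pc_of_homology' h hb fun i hni => ?_
    rcases hni.lt_or_eq with hlt | rfl
    · obtain ⟨h1, h2⟩ := hi i hlt
      have := pc_single_of_coherent h hcoh (i - n).toNat _ h1 h2
      rwa [show (-((i - n).toNat : ℤ)) = n - i by omega] at this
    · simpa using pc_single_of_finiteType h hn

end PQLib
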