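import Mathlib
import Groth.Agent.PQLib.Stupid

/-!
# Images of pseudo-coherent objects under triangulated functors
-/

set_option autoImplicit false
set_option linter.style.haveILetI false

universe w w' v v' u u'

open CategoryTheory CategoryTheory.Limits CategoryTheory.Pretriangulated HomologicalComplex

namespace PQLib

variable {C : Type u} [Category.{v} C] [Abelian C] [HasDerivedCategory.{w} C]

theorem isZero_homology_shift_iff (X : DerivedCategory C) (k i j : ℤ) (h : k + i = j) :
    IsZero ((DerivedCategory.homologyFunctor C i).obj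
      ((shiftFunctor (DerivedCategory C) k).obj X)) ↔
      IsZero ((DerivedCategory.homologyFunctor C j).obj X) :=
  (((DerivedCategory.homologyFunctor C 0).shiftIso k i j h).app X).isZero_iff

variable {C' : Type u'} [Category.{v'} C'] [Abelian C'] [HasDerivedCategory.{w'} C']
  (u : DerivedCategory C ⥤ DerivedCategory C') [u.CommShift ℤ]

theorem isZero_homology_map (b : ℤ)
    (hii : ∀ F : DerivedCategory C,
      (∀ i : ℤ, 0 < i → IsZero ((DerivedCategory.homologyFunctor C i).obj F)) →
      ∀ i : ℤ, b < i → IsZero ((DerivedCategory.homologyFunctor C' i).obj (u.obj F)))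
    (n : ℤ) {F : DerivedCategory C}
    (hac : ∀ i : ℤ, n < i → IsZero ((DerivedCategory.homologyFunctor C i).obj F))
    (i : ℤ) (hi : n + b < i) :
    IsZero ((DerivedCategory.homologyFunctor C' i).obj (u.obj F)) := by
  have h := hii ((shiftFunctor (DerivedCategory C) n).obj F) (fun j hj =>
    (isZero_homology_shift_iff F n j (n + j) rfl).2 (hac _ (by omega))) (i - n) (by omega)
  exact (isZero_homology_shift_iff (u.obj F) n (i - n) i (by omega)).1
    (h.of_iso ((DerivedCategory.homologyFunctor C' (i - n)).mapIso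
      ((u.commShiftIso n).app F)).symm)

variable [u.IsTriangulated] {P : ObjectProperty C} [P.IsClosedUnderIsomorphisms] [P.ContainsZero]
  {P' : ObjectProperty C'} [P'.IsClosedUnderIsomorphisms] [P'.ContainsZero]

theorem pc_map_single {N : ℤ} (a : ℤ) {A : C} (l : ℤ)
    (hA : PC P' a (u.obj ((DerivedCategory.singleFunctor C 0).obj A))) (hN : a + l ≤ N) :
    PC P' N (u.obj ((DerivedCategory.singleFunctor C l).obj A)) :=
  ((hA.shift (-l) (a + l) (by omega)).mono_deg hN).of_iso
    (((u.commShiftIso (-l)).app _).symm ≪≫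
      u.mapIso (((DerivedCategory.singleFunctors C).shiftIso (-l) l 0 (by omega)).app A))

open ZeroObject in
theorem pc_map_perfect (h' : Hyp P') (a n : ℤ) {E : CochainComplex C ℤ} (m : ℤ)
    (hi : ∀ A : C, P A → PC P' a (u.obj ((DerivedCategory.singleFunctor C 0).obj A)))
    (hP : ∀ j : ℤ, P (E.X j)) (hlo : ∀ j : ℤ, j < m → IsZero (E.X j))
    (hhi : ∀ j : ℤ, n < j → IsZero (E.X j)) :
    PC P' (n + a) (u.obj (DerivedCategory.Q.obj E)) := by
  suffices key : ∀ (k : ℕ) (l : ℤ), n < l + k → ∃ (G : CochainComplex C ℤ) (φ : G ⟶ E),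
      (∀ j : ℤ, l ≤ j → IsIso (φ.f j)) ∧ (∀ j : ℤ, j < l → IsZero (G.X j)) ∧
      PC P' (n + a) (u.obj (DerivedCategory.Q.obj G)) by
    obtain ⟨G, φ, hiso, hz, hG⟩ := key (n + 1 - min m n).toNat (min m n) (by omega)
    haveI : ∀ j, IsIso (φ.f j) := fun j => by
      rcases lt_or_ge j (min m n) with hj | hj
      · exact ⟨0, (hz j hj).eq_of_src _ _, (hlo j (by omega)).eq_of_src _ _⟩
      · exact hiso j hj
    haveI : IsIso φ := HomologicalComplex.Hom.isIso_of_components φ
    exact hG.of_iso (u.mapIso (DerivedCategory.Q.mapIso (asIso φ)))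
  intro k
  induction k with
  | zero =>
    intro l hl
    have hz := fun j => (HomologicalComplex.eval C (ComplexShape.up ℤ) j).map_isZero
      (isZero_zero (CochainComplex C ℤ))
    refine ⟨0, 0, fun j hj => ⟨0, (hz j).eq_of_src _ _, (hhi j (by omega)).eq_of_src _ _⟩,
      fun j _ => hz j, ?_⟩
    have h0 : IsZero (u.obj (DerivedCategory.Q.obj (0 : CochainComplex C ℤ))) :=
      u.map_isZero ((DerivedCategory.Q (C := C)).map_isZero (isZero_zero _))
    exact (PC.of_strict (isStrictPC_of_isZero (isZero_zero _))).of_iso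
      (((DerivedCategory.Q (C := C')).map_isZero (isZero_zero _)).iso h0)
  | succ k ih =>
    intro l hl
    obtain ⟨G, φ, hiso, hzero, hG⟩ := ih (l + 1) (by push_cast at hl ⊢; omega)
    obtain ⟨G', φ', h₁, h₂, T, hT, e₁, e₂, e₃⟩ := exists_stupid_triangle (l := l) φ
      (fun j hj => hiso j (by omega)) (fun j hj => hzero j (by omega))
    refine ⟨G', φ', h₁, h₂, e₃ ▸ PC.cone h' (u.mapTriangle.obj T) (u.map_distinguished T hT) ?_
      (show PC P' (n + a) (u.obj T.obj₂) from e₂ ▸ hG)⟩
    change PC P' (n + a + 1) (u.obj T.obj₁)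
    rw [e₁]
    rcases le_or_gt l n with hln | hln
    · exact pc_map_single u a (l + 1) (hi _ (hP l)) (by omega)
    · have h0 : IsZero (u.obj ((DerivedCategory.singleFunctor C (l + 1)).obj (E.X l))) :=
        u.map_isZero ((DerivedCategory.singleFunctor C (l + 1)).map_isZero (hhi l hln))
      exact (PC.of_strict (isStrictPC_of_isZero (isZero_zero _))).of_iso
        (((DerivedCategory.Q (C := C')).map_isZero (isZero_zero _)).iso h0)

theorem pc_map (h : Hyp P) (h' : Hyp P') (a b : ℤ)
    (hi : ∀ A : C, P A → PC P' a (u.obj ((DerivedCategory.singleFunctor C 0).obj A)))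
    (hii : ∀ F : DerivedCategory C,
      (∀ i : ℤ, 0 < i → IsZero ((DerivedCategory.homologyFunctor C i).obj F)) →
      ∀ i : ℤ, b < i → IsZero ((DerivedCategory.homologyFunctor C' i).obj (u.obj F)))
    (m n : ℤ) {F : DerivedCategory C} (hF : PC P m F)
    (hac : ∀ i : ℤ, n < i → IsZero ((DerivedCategory.homologyFunctor C i).obj F)) :
    PC P' (max (m + b) (n + a)) (u.obj F) := by
  obtain ⟨E, α, hz, hP, hα⟩ := exists_perfect_nIso h hF (max (n + 1) m) (le_max_right _ _)
    fun j hj => hac j (by omega)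
  have hE : PC P' (max (m + b) (n + a)) (u.obj (DerivedCategory.Q.obj E)) :=
    (pc_map_perfect u h' a n m hi hP (fun j hj => hz j (Or.inl hj)) fun j hj => by
      rcases lt_or_ge j m with hjm | hjm
      · exact hz j (Or.inl hjm)
      · exact hz j (Or.inr (by omega))).mono_deg (le_max_right _ _)
  obtain ⟨Z, f, g, hT⟩ := distinguished_cocone_triangle α
  have hZ := (nIso_iff_cone _ hT m).1 hα
  have hα' : NIso (u.map α) (max (m + b) (n + a)) :=
    (nIso_iff_cone _ (u.map_distinguished _ hT) _).2 fun j hj =>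
      isZero_homology_map u b hii (m - 1) (fun i hi => hZ i (by omega)) j (by omega)
  obtain ⟨K, hK, ⟨e⟩⟩ := hE
  refine pc_of_nIso h' hK (e.hom ≫ u.map α) ⟨fun i hi => ?_, ?_⟩
  · haveI := hα'.1 i hi
    rw [Functor.map_comp]; infer_instance
  · haveI := hα'.2
    rw [Functor.map_comp]; exact epi_comp _ _

end PQLib
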