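import Mathlib
import Groth.Agent.PQLib.Derived

/-!
# Resolutions by strictly pseudo-coherent complexes
-/

set_option autoImplicit false
set_option linter.style.haveILetI false

universe w v u

open CategoryTheory CategoryTheory.Limits CategoryTheory.Pretriangulated HomologicalComplex

namespace PQLib

variable {C : Type u} [Category.{v} C] [Abelian C] {P : ObjectProperty C}
  [P.IsClosedUnderIsomorphisms]

/-- A stage of the construction. -/
structure Stage (P : ObjectProperty C) (F : CochainComplex C ℤ) (b n : ℤ) (k : ℕ) where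
  /-- the complex -/
  E : CochainComplex C ℤ
  /-- the map -/
  u : E ⟶ F
  mem : ∀ i : ℤ, P (E.X i)
  bound : ∀ i : ℤ, b < i → IsZero (E.X i)
  nqis : NQis u (n - k)

theorem Stage.exists_next (h : Hyp P) {F : CochainComplex C ℤ} {b n : ℤ} (hnb : n ≤ b)
    (hF : ∀ m : ℤ, Good P m F) {k : ℕ} (S : Stage P F b n k) :
    ∃ (S' : Stage P F b n (k + 1)) (v : S.E ⟶ S'.E), v ≫ S'.u = S.u ∧
      (∀ i : ℤ, Mono (v.f i)) ∧ (∀ i : ℤ, i ≠ n - (k + 1) → IsIso (v.f i)) := by
  have hu : NQis S.u (n - (k + 1) + 1) := by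
    rw [show n - ((k : ℤ) + 1) + 1 = n - k by ring]; exact S.nqis
  obtain ⟨E', v, u', hfac, hm, hiso, -, hP, hu'⟩ := exists_modify h.sum h.ql (n - (k + 1)) S.u hu
    (hF (n - (k + 1)) S.E S.u ⟨⟨b, S.bound⟩, fun i _ => S.mem i⟩ _ le_rfl hu)
  refine ⟨⟨E', u', fun i => ?_, fun i hi => ?_, by exact_mod_cast hu'⟩, v, hfac, hm, hiso⟩
  · rcases eq_or_ne i (n - (k + 1)) with rfl | hne
    · exact hP (S.mem _)
    · haveI := hiso i hne
      exact P.prop_of_iso (asIso (v.f i)) (S.mem i)
  · haveI := hiso i (by omega)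
    exact IsZero.of_iso (S.bound i hi) (asIso (v.f i)).symm

/-- Factorisation through a quasi-isomorphism from a strictly pseudo-coherent complex. -/
theorem exists_factor_all (h : Hyp P) {n : ℤ} {E F : CochainComplex C ℤ}
    (hF : ∀ m : ℤ, Good P m F) (u : E ⟶ F) (hE : PCoh.IsStrictPCAll P E) (hu : NQis u n) :
    ∃ (E' : CochainComplex C ℤ) (v : E ⟶ E') (u' : E' ⟶ F), v ≫ u' = u ∧
      PCoh.IsStrictPCAll P E' ∧ QuasiIso u' ∧
      (∀ j : ℤ, Mono (v.f j)) ∧ (∀ j : ℤ, n ≤ j → IsIso (v.f j)) := by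
  obtain ⟨b₀, hb₀⟩ := hE.1
  let b := max b₀ n
  have hnb : n ≤ b := le_max_right _ _
  let S₀ : Stage P F b n 0 := ⟨E, u, hE.2, fun i hi => hb₀ i (by omega), by simpa using hu⟩
  let next : ∀ k, Stage P F b n k → Stage P F b n (k + 1) :=
    fun k S => (S.exists_next h hnb hF).choose
  let S : ∀ k, Stage P F b n k := fun k => Nat.rec S₀ next k
  let v : ∀ k, (S k).E ⟶ (S (k + 1)).E := fun k => ((S k).exists_next h hnb hF).choose_spec.choose
  have hv : ∀ k, v k ≫ (S (k + 1)).u = (S k).u ∧ (∀ i : ℤ, Mono ((v k).f i)) ∧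
      (∀ i : ℤ, i ≠ n - (k + 1) → IsIso ((v k).f i)) := fun k =>
    ((S k).exists_next h hnb hF).choose_spec.choose_spec
  let G : ℕ ⥤ CochainComplex C ℤ := Functor.ofSequence v
  have hGv : ∀ k, G.map (homOfLE (Nat.le_add_right k 1)) = v k :=
    Functor.ofSequence_map_homOfLE_succ v
  have hiso : ∀ (j : ℤ) (K m : ℕ), n - K ≤ j →
      IsIso ((G.map (homOfLE (Nat.le_add_right K m))).f j) := by
    intro j K m hj
    induction m with
    | zero =>
      have : G.map (homOfLE (Nat.le_add_right K 0)) = 𝟙 _ := G.map_id K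
      rw [this]; exact inferInstanceAs (IsIso (𝟙 _))
    | succ m ih =>
      have hsucc : G.map (homOfLE (Nat.le_add_right K (m + 1))) =
          G.map (homOfLE (Nat.le_add_right K m)) ≫ v (K + m) :=
        (G.map_comp (homOfLE (Nat.le_add_right K m)) (homOfLE (Nat.le_add_right (K + m) 1))).trans
          (congrArg (_ ≫ ·) (hGv _))
      haveI := ih
      haveI := (hv (K + m)).2.2 j (by push_cast; omega)
      rw [hsucc, comp_f]; exact IsIso.comp_isIso' ih ((hv (K + m)).2.2 j (by push_cast; omega))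
  have hmono : ∀ (j : ℤ) (m : ℕ), Mono ((G.map (homOfLE (Nat.zero_le m))).f j) := by
    intro j m
    induction m with
    | zero =>
      have : G.map (homOfLE (Nat.zero_le 0)) = 𝟙 _ := G.map_id 0
      rw [this]; exact inferInstanceAs (Mono (𝟙 _))
    | succ m ih =>
      have hsucc : G.map (homOfLE (Nat.zero_le (m + 1))) = G.map (homOfLE (Nat.zero_le m)) ≫ v m :=
        (G.map_comp (homOfLE (Nat.zero_le m)) (homOfLE (Nat.le_add_right m 1))).trans
          (congrArg (_ ≫ ·) (hGv _))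
      haveI := ih
      haveI := (hv m).2.1 j
      rw [hsucc, comp_f]; exact @mono_comp _ _ _ _ _ _ ih _ ((hv m).2.1 j)
  have hec : ∀ j : ℤ,
      (G ⋙ HomologicalComplex.eval C _ j).IsEventuallyConstantFrom (n - j).toNat := by
    intro j m f
    obtain ⟨d, rfl⟩ := Nat.exists_eq_add_of_le (leOfHom f)
    exact hiso j _ d (by omega)
  haveI : ∀ j, HasColimit (G ⋙ HomologicalComplex.eval C (ComplexShape.up ℤ) j) :=
    fun j => (hec j).hasColimit
  have hι : ∀ (K : ℕ) (j : ℤ), n - K ≤ j → IsIso ((colimit.ι G K).f j) := fun K j hj =>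
    (hec j).isIso_ι_of_isColimit'
      (isColimitOfPreserves (HomologicalComplex.eval C (ComplexShape.up ℤ) j)
        (colimit.isColimit G)) K (homOfLE (by omega))
  let c : Cocone G :=
    { pt := F
      ι := NatTrans.ofSequence (G := (Functor.const ℕ).obj F) (fun k => (S k).u) fun k => by
        rw [hGv]
        exact (hv k).1.trans (Category.comp_id _).symm }
  have hdesc : ∀ K, colimit.ι G K ≫ colimit.desc G c = (S K).u := fun K => colimit.ι_desc c K
  refine ⟨colimit G, colimit.ι G 0, colimit.desc G c, hdesc 0, ⟨⟨b, fun i hi => ?_⟩, fun i => ?_⟩,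
    ?_, fun j => ?_, fun j hj => hι 0 j (by simpa using hj)⟩
  · haveI := hι 0 i (by simp; omega)
    exact IsZero.of_iso (hb₀ i (by omega)) (asIso ((colimit.ι G 0).f i)).symm
  · haveI := hι (n - i).toNat i (by omega)
    exact P.prop_of_iso (asIso ((colimit.ι G (n - i).toNat).f i)) ((S _).mem i)
  · rw [quasiIso_iff]
    intro j
    rw [quasiIsoAt_iff_isIso_homologyMap]
    let K := (n - j + 1).toNat + 1
    have hKι := homologyMap_isIso_of_isIso (colimit.ι G K) j (hι K _ (by omega)) (hι K _ (by omega))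
      (hι K _ (by omega))
    haveI := (S K).nqis.1 j (by omega)
    have hfac : homologyMap (colimit.ι G K) j ≫ homologyMap (colimit.desc G c) j =
        homologyMap (S K).u j :=
      (homologyMap_comp _ _ j).symm.trans (congrArg (fun f => homologyMap f j) (hdesc K))
    exact @IsIso.of_isIso_fac_left _ _ _ _ _ _ _ _ hKι ((S K).nqis.1 j (by omega)) hfac
  · haveI := hι (n - j).toNat j (by omega)
    haveI := hmono j (n - j).toNat
    have hw := congr_hom (colimit.w G (homOfLE (Nat.zero_le (n - j).toNat))) j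
    rw [comp_f] at hw
    exact hw ▸ @mono_comp _ _ _ _ _ _ (hmono j _) _ inferInstance

variable [P.ContainsZero]

open ZeroObject in
/-- Strictly pseudo-coherent resolutions. -/
theorem exists_resolution_all (h : Hyp P) {F : CochainComplex C ℤ} (hF : ∀ m : ℤ, Good P m F)
    (i : ℤ) (hi : ∀ j : ℤ, i ≤ j → IsZero (F.homology j)) :
    ∃ (E' : CochainComplex C ℤ) (u' : E' ⟶ F), PCoh.IsStrictPCAll P E' ∧ QuasiIso u' ∧
      ∀ j : ℤ, i ≤ j → IsZero (E'.X j) := by
  have hz : ∀ j, IsZero ((0 : CochainComplex C ℤ).X j) := fun j =>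
    (HomologicalComplex.eval C _ j).map_isZero (isZero_zero _)
  obtain ⟨E', v, u', -, hE', hq, -, hiso⟩ := exists_factor_all h hF
    (0 : (0 : CochainComplex C ℤ) ⟶ F) ⟨⟨0, fun j _ => hz j⟩, fun j => P.prop_of_isZero (hz j)⟩
    (nqis_of_isZero (isZero_zero _) _ i hi)
  refine ⟨E', u', hE', hq, fun j hj => ?_⟩
  haveI := hiso j hj
  exact IsZero.of_iso (hz j) (asIso (v.f j)).symm

variable [HasDerivedCategory.{w} C]

theorem good_all (h : Hyp P) {F : CochainComplex C ℤ}
    (hF : PCoh.IsPC P (DerivedCategory.Q.obj F)) (m : ℤ) : Good P m F :=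
  good_of_pc h (hF m)

theorem exists_resolution_of_isPC (h : Hyp P) {F : CochainComplex C ℤ}
    (hF : PCoh.IsPC P (DerivedCategory.Q.obj F)) :
    ∃ (E' : CochainComplex C ℤ) (u' : E' ⟶ F), PCoh.IsStrictPCAll P E' ∧ QuasiIso u' := by
  obtain ⟨b, hb⟩ := PC.homology_bounded (show PC P 0 (DerivedCategory.Q.obj F) from hF 0)
  obtain ⟨E', u', hE', hu', -⟩ := exists_resolution_all h (good_all h hF) b
    fun j hj => IsZero.of_iso (hb j hj) (homologyIso (Iso.refl (DerivedCategory.Q.obj F)) j).symm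
  exact ⟨E', u', hE', hu'⟩

omit [P.IsClosedUnderIsomorphisms] [P.ContainsZero] in
theorem isPC_of_quasiIso {X E : CochainComplex C ℤ} (hE : PCoh.IsStrictPCAll P E) (s : X ⟶ E)
    [QuasiIso s] : PCoh.IsPC P (DerivedCategory.Q.obj X) := by
  haveI : IsIso (DerivedCategory.Q.map s) :=
    (DerivedCategory.isIso_Q_map_iff_quasiIso C s).2 inferInstance
  exact fun n => ⟨E, ⟨hE.1, fun i _ => hE.2 i⟩, ⟨(asIso (DerivedCategory.Q.map s)).symm⟩⟩

/-- Roofs with strictly pseudo-coherent source. -/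
theorem exists_roof_all (h : Hyp P) {E G : CochainComplex C ℤ} (hE : PCoh.IsStrictPCAll P E)
    (f : DerivedCategory.Q.obj E ⟶ DerivedCategory.Q.obj G) :
    ∃ (E' : CochainComplex C ℤ) (s : E' ⟶ E) (g : E' ⟶ G), PCoh.IsStrictPCAll P E' ∧ QuasiIso s ∧
      DerivedCategory.Q.map s ≫ f = DerivedCategory.Q.map g := by
  obtain ⟨X, s, hs, g, hg⟩ := DerivedCategory.right_fac f
  haveI : QuasiIso s := (DerivedCategory.isIso_Q_map_iff_quasiIso C s).1 hs
  obtain ⟨E', v, hE', hv⟩ := exists_resolution_of_isPC h (isPC_of_quasiIso hE s)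
  exact ⟨E', v ≫ s, v ≫ g, hE', inferInstance, by simp [hg]⟩

/-- Equality in the derived category. -/
theorem exists_homotopy_all (h : Hyp P) {E G : CochainComplex C ℤ} (hE : PCoh.IsStrictPCAll P E)
    (f g : E ⟶ G) (hfg : DerivedCategory.Q.map f = DerivedCategory.Q.map g) :
    ∃ (E' : CochainComplex C ℤ) (s : E' ⟶ E), PCoh.IsStrictPCAll P E' ∧ QuasiIso s ∧
      Nonempty (Homotopy (s ≫ f) (s ≫ g)) := by
  have hfg' : DerivedCategory.Qh.map ((HomotopyCategory.quotient C (ComplexShape.up ℤ)).map f) =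
      DerivedCategory.Qh.map ((HomotopyCategory.quotient C (ComplexShape.up ℤ)).map g) := by
    have e := (DerivedCategory.quotientCompQhIso C).hom
    rw [← cancel_mono ((DerivedCategory.quotientCompQhIso C).hom.app G)]
    refine ((DerivedCategory.quotientCompQhIso C).hom.naturality f).trans ?_
    exact (congrArg (_ ≫ ·) hfg).trans
      ((DerivedCategory.quotientCompQhIso C).hom.naturality g).symm
  obtain ⟨X, s, hs, hsfg⟩ := (MorphismProperty.map_eq_iff_precomp DerivedCategory.Qh
    (HomotopyCategory.quasiIso C (ComplexShape.up ℤ)) _ _).1 hfg'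
  obtain ⟨X, rfl⟩ := HomotopyCategory.quotient_obj_surjective X
  obtain ⟨s, rfl⟩ := (HomotopyCategory.quotient _ _).map_surjective s
  rw [HomotopyCategory.quotient_map_mem_quasiIso_iff, HomologicalComplex.mem_quasiIso_iff] at hs
  haveI := hs
  obtain ⟨E', v, hE', hv⟩ := exists_resolution_of_isPC h (isPC_of_quasiIso hE s)
  rw [← Functor.map_comp, ← Functor.map_comp] at hsfg
  exact ⟨E', v ≫ s, hE', inferInstance,
    ⟨((Homotopy.ofEq (Category.assoc v s f)).trans
      ((HomotopyCategory.homotopyOfEq _ _ hsfg).compLeft v)).trans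
        (Homotopy.ofEq (Category.assoc v s g).symm)⟩⟩

end PQLib
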